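import Groth.Agent.RedLR.Unip
import Groth.Agent.HopfPoint.Basic
import Groth.Agent.Chev.ProjRep
import Groth.Agent.SmoothRed.Basic
import Groth.Agent.Comod.Transfer

/-!
# A normal unipotent subgroup acts trivially on semisimple representations
-/

set_option autoImplicit false
set_option linter.unusedSectionVars false
set_option linter.style.haveILetI false
set_option backward.isDefEq.respectTransparency false
set_option synthInstance.maxHeartbeats 400000
set_option maxHeartbeats 1000000

universe u

open CategoryTheory CategoryTheory.Limits MonoidalCategory CartesianMonoidalCategory MonObj GrpObj AlgebraicGeometry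
open TensorProduct WithConv
open Groth.Agent.MTBridge (specGrp)
open Groth.Agent.Comod
open scoped Groth.Agent.Comod

noncomputable section

namespace Groth.Agent.RedLR

variable {k : Type u} [Field k] [IsAlgClosed k] {A : Type u} [CommRing A] [HopfAlgebra k A] [Algebra.FiniteType k A]
  [IsReduced A]

/-- A tensor is determined by the rational points of a reduced algebra. -/
theorem tensor_eq_of_points {B : Type u} [CommRing B] [HopfAlgebra k B] [Algebra.FiniteType k B] [IsReduced B]
    {V : Type u} [AddCommGroup V] [Module k V] {s t : V ⊗[k] B}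
    (h : ∀ n : B →ₐ[k] k, cR n.toLinearMap s = cR n.toLinearMap t) : s = t := by
  refine tensor_eq_of_cL fun ψ => sub_eq_zero.1 ?_
  by_contra hne
  obtain ⟨n, hn⟩ := Groth.Agent.HopfPoint.exists_point_ne_zero (k := k) (a := cL ψ s - cL ψ t)
    (fun hnil => hne hnil.eq_zero)
  apply hn
  rw [map_sub]
  show n.toLinearMap (cL ψ s) - n.toLinearMap (cL ψ t) = 0
  rw [cR_cL, cR_cL, h, sub_self]

/-- A normal unipotent subgroup fixes semisimple representations. -/
theorem fixed_of_normal_unipotent {B : Type u} [CommRing B] [HopfAlgebra k B] [Algebra.FiniteType k B] [IsReduced B]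
    (φ : A →ₐc[k] B) (hB : HopfRep.IsUnipotent k B)
    (hn : ∀ (g : WithConv (A →ₐ[k] k)) (n : B →ₐ[k] k), ∃ n' : B →ₐ[k] k,
      g * toConv (n.comp (φ : A →ₐ[k] B)) * g⁻¹ = toConv (n'.comp (φ : A →ₐ[k] B)))
    (V : Type u) [AddCommGroup V] [Module k V] [HopfRep.Comod k A V] [Module.Finite k V]
    (hss : HopfRep.IsSemisimpleComod k A V) (v : V) :
    (φ : A →ₗ[k] B).lTensor V (HopfRep.Comod.coact (k := k) (A := A) v) = v ⊗ₜ[k] (1 : B) := by
  let cB : HopfRep.Comod k B V := pushforward (φ : A →ₗc[k] B) inferInstance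
  let F : Submodule k V := @HopfRep.fixedPts k B _ _ _ V _ _ cB
  have hval : ∀ (n : B →ₐ[k] k) (w : V), cR n.toLinearMap ((φ : A →ₗ[k] B).lTensor V
      (HopfRep.Comod.coact (k := k) (A := A) w)) = ptAct V (toConv (n.comp (φ : A →ₐ[k] B))) w := by
    intro n w
    show _ = cR _ (HopfRep.Comod.coact (k := k) (A := A) w)
    generalize HopfRep.Comod.coact (k := k) (A := A) w = t
    induction t using TensorProduct.induction_on with
    | zero => simp
    | add a b ha hb => simp only [map_add, ha, hb]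
    | tmul a b => simp
  have hFmem : ∀ w, w ∈ F ↔ ∀ n : B →ₐ[k] k, ptAct V (toConv (n.comp (φ : A →ₐ[k] B))) w = w := by
    intro w
    show (φ : A →ₗ[k] B).lTensor V (HopfRep.Comod.coact (k := k) (A := A) w) = w ⊗ₜ[k] (1 : B) ↔ _
    constructor
    · intro h n
      rw [← hval, h, cR_tmul]
      simp
    · intro h
      refine tensor_eq_of_points fun n => ?_
      rw [hval, h, cR_tmul]
      simp
  have hFst : ∀ (g : WithConv (A →ₐ[k] k)) (w : V), w ∈ F → ptAct V g w ∈ F := by
    intro g w hw
    rw [hFmem] at hw ⊢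
    intro n
    obtain ⟨n', hn'⟩ := hn g⁻¹ n
    rw [_root_.inv_inv] at hn'
    have e : toConv (n.comp (φ : A →ₐ[k] B)) * g = g * toConv (n'.comp (φ : A →ₐ[k] B)) := by
      rw [← hn']; group
    rw [← Module.End.mul_apply, ← map_mul, e, map_mul, Module.End.mul_apply, hw n']
  have hFsub : HopfRep.IsSubcomod (k := k) (A := A) F :=
    Groth.Agent.Chev.ProjRep.isSubcomod_of_forall_act F fun g w hw => hFst (toConv g) w hw
  suffices hF : F = ⊤ by
    have : v ∈ F := hF ▸ trivial
    exact this
  obtain ⟨F', hF', hc⟩ := hss F hFsub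
  suffices F' = ⊥ by simpa [this] using hc.sup_eq_top
  by_contra hne
  haveI : Nontrivial F' := Submodule.nontrivial_iff_ne_bot.2 hne
  let cA' : HopfRep.Comod k A F' := ComodSub.Comod.restr (inferInstance : HopfRep.Comod k A V) F' hF'
  let cB' : HopfRep.Comod k B F' := pushforward (φ : A →ₗc[k] B) cA'
  obtain ⟨w, hw, hw0⟩ := (Submodule.ne_bot_iff _).1 (@hB F' _ _ cB' inferInstance inferInstance)
  have hwF : (w : V) ∈ F := by
    show (φ : A →ₗ[k] B).lTensor V (HopfRep.Comod.coact (k := k) (A := A) (w : V)) = (w : V) ⊗ₜ[k] (1 : B)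
    have h1 := ComodSub.restr_coact_coe (inferInstance : HopfRep.Comod k A V) F' hF' w
    rw [← h1, ← LinearMap.comp_apply, LinearMap.lTensor_comp_rTensor, ← LinearMap.rTensor_comp_lTensor,
      LinearMap.comp_apply]
    have h2 : (φ : A →ₗ[k] B).lTensor F' (cA'.coact w) = w ⊗ₜ[k] (1 : B) := hw
    rw [h2]
    rfl
  exact hw0 (Subtype.ext (Submodule.disjoint_def.1 hc.disjoint _ hwF w.2))

/-- The criterion: representations detecting everything are fixed only by the trivial subgroup. -/
theorem isTrivialGrp_of_normal {U : Over (Spec (CommRingCat.of k))} [GrpObj U] (i : U ⟶ (specGrp k A).X)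
    [IsMonHom i] (hi : IsClosedImmersion i.left) (hs : Smooth U.hom) (hc : ConnectedSpace U.left)
    (hN : AlgGrp.IsNormalHom i) (hT : Red.HasNoSubtorus k U)
    (hdet : ∀ (B : Type u) [CommRing B] [HopfAlgebra k B] (φ : A →ₐc[k] B),
      (∀ (V : Type u) [AddCommGroup V] [Module k V] [HopfRep.Comod k A V], Module.Finite k V →
        HopfRep.IsSemisimpleComod k A V → ∀ v : V,
          (φ : A →ₗ[k] B).lTensor V (HopfRep.Comod.coact (k := k) (A := A) v) = v ⊗ₜ[k] (1 : B)) →
      ∀ a, φ a = algebraMap k B (Coalgebra.counit (R := k) a)) :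
    Red.IsTrivialGrp U := by
  haveI := hi; haveI := hs; haveI := hc
  haveI : IsAffine (specGrp k A).X.left := inferInstanceAs (IsAffine (Spec (CommRingCat.of A)))
  haveI : IsAffine U.left := isAffine_of_isAffineHom i.left
  obtain ⟨B, _, e, he⟩ := FinHopf.exists_hopf (R := CommRingCat.of k) U
  haveI := he
  haveI : IsIso e.hom.left := inferInstanceAs (IsIso ((Over.forget _).map e.hom))
  haveI : Algebra.FiniteType k B := by
    have h0 : LocallyOfFiniteType (e.hom.left ≫ U.hom) := inferInstance
    rw [Over.w e.hom] at h0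
    exact RingHom.finiteType_algebraMap.1 ((HasRingHomProperty.Spec_iff (P := @LocallyOfFiniteType)).1 h0)
  haveI : IsDomain B := Chev.Borel.isDomain_of_smooth_connected e
  have hU := isUnipotent_of_hasNoSubtorus (A := B) e hT
  let v : (specGrp k B).X ⟶ (specGrp k A).X := e.hom ≫ i
  haveI : IsMonHom v := by dsimp [v]; infer_instance
  obtain ⟨φ, hφ⟩ := MTBridge.exists_bialgHom v
  haveI : Mono i := (Over.forget _).mono_of_mono_map (inferInstanceAs (Mono i.left))
  have hn : ∀ (g : WithConv (A →ₐ[k] k)) (n : B →ₐ[k] k), ∃ n' : B →ₐ[k] k,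
      g * toConv (n.comp (φ : A →ₐ[k] B)) * g⁻¹ = toConv (n'.comp (φ : A →ₐ[k] B)) := by
    intro g n
    have hcomp : ∀ m : B →ₐ[k] k, ((Spec.mapMulEquiv (toConv m) : _ ⟶ (specGrp k B).X) ≫ e.hom) ≫ i =
        Spec.mapMulEquiv (toConv (m.comp (φ : A →ₐ[k] B))) := by
      intro m
      refine Over.OverMorphism.ext ?_
      show (Spec.map _ ≫ e.hom.left) ≫ i.left = Spec.map _
      rw [Category.assoc]
      show Spec.map _ ≫ v.left = _
      rw [hφ, ← Spec.map_comp]
      rfl
    obtain ⟨n', hn'⟩ := hN _ (Spec.mapMulEquiv g) ((Spec.mapMulEquiv (toConv n) : _ ⟶ (specGrp k B).X) ≫ e.hom)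
    obtain ⟨m, hm⟩ : ∃ m : WithConv (B →ₐ[k] k), (Spec.mapMulEquiv m : _ ⟶ (specGrp k B).X) = n' ≫ e.inv :=
      ⟨_, Spec.mapMulEquiv.apply_symm_apply _⟩
    refine ⟨m.ofConv, Spec.mapMulEquiv.injective ?_⟩
    rw [← hcomp m.ofConv, show toConv m.ofConv = m from rfl, hm, Category.assoc n' e.inv, e.inv_hom_id, Category.comp_id, ← hn',
      hcomp n]
    exact ((map_mul Spec.mapMulEquiv _ _).trans
      (congrArg₂ (· * ·) (map_mul Spec.mapMulEquiv _ _) (map_inv Spec.mapMulEquiv g)))
  have hall : ∀ a, φ a = algebraMap k B (Coalgebra.counit (R := k) a) :=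
    hdet B φ fun V _ _ _ hfin hss w => by
      haveI := hfin
      exact fixed_of_normal_unipotent φ hU hn V hss w
  have hi1 : i = 1 := by
    rw [← cancel_epi e.hom, MonObj.comp_one]
    refine Over.OverMorphism.ext ?_
    show v.left = _
    rw [hφ, show (φ : A →ₐ[k] B) = WithConv.ofConv (1 : WithConv (A →ₐ[k] B)) from
      AlgHom.ext fun a => by rw [AlgHom.convOne_apply]; exact hall a]
    exact congrArg (fun x => x.left) (Spec.mapMulEquiv (R := k) (S := A) (T := B)).map_one
  have h1 : 𝟙 U = toUnit U ≫ η[U] := (cancel_mono i).1 (by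
    rw [Category.id_comp, Category.assoc, IsMonHom.one_hom, hi1, Hom.one_def])
  haveI : IsIso (toUnit U) := ⟨η[U], h1.symm, toUnit_unique _ _⟩
  show IsIso U.hom
  have : IsIso ((Over.forget _).map (toUnit U)) := inferInstance
  exact this

/-- Groups with a faithful semisimple representation have no normal unipotent subgroups. -/
theorem isTrivialGrp_of_faithful (V : Type u) [AddCommGroup V] [Module k V] [Module.Finite k V] [HopfRep.Comod k A V]
    (hss : HopfRep.IsSemisimpleComod k A V)
    (hfaith : ∀ (R : Type u) [CommRing R] [Algebra k R] (g : A →ₐ[k] R),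
      (∀ v : V, LinearMap.lTensor V g.toLinearMap (HopfRep.Comod.coact (k := k) (A := A) v) = v ⊗ₜ[k] (1 : R)) →
        g = (Algebra.ofId k R).comp (Bialgebra.counitAlgHom k A))
    {U : Over (Spec (CommRingCat.of k))} [GrpObj U] (i : U ⟶ (specGrp k A).X) [IsMonHom i]
    (hi : IsClosedImmersion i.left) (hs : Smooth U.hom) (hc : ConnectedSpace U.left)
    (hN : AlgGrp.IsNormalHom i) (hT : Red.HasNoSubtorus k U) : Red.IsTrivialGrp U :=
  isTrivialGrp_of_normal i hi hs hc hN hT fun B _ _ φ h a =>
    DFunLike.congr_fun (hfaith B (φ : A →ₐ[k] B) fun v => h V inferInstance hss v) a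

/-- Linearly reductive groups have no normal unipotent subgroups. -/
theorem isTrivialGrp_of_linearlyReductive (hLR : HopfRep.IsLinearlyReductive k A)
    {U : Over (Spec (CommRingCat.of k))} [GrpObj U] (i : U ⟶ (specGrp k A).X) [IsMonHom i]
    (hi : IsClosedImmersion i.left) (hs : Smooth U.hom) (hc : ConnectedSpace U.left)
    (hN : AlgGrp.IsNormalHom i) (hT : Red.HasNoSubtorus k U) : Red.IsTrivialGrp U := by
  refine isTrivialGrp_of_normal i hi hs hc hN hT fun B _ _ φ h a => ?_
  obtain ⟨S, haS, hfin⟩ := exists_finite_subcomod (K := k) (C := A) a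
  letI cS := ComodSub.Comod.restr (inferInstance : HopfRep.Comod k A A) (ofDSub S) (isSubcomod_ofDSub S)
  have h0 := h ↥(ofDSub S) hfin (hLR ↥(ofDSub S) hfin) ⟨a, haS⟩
  have h1 := congrArg (fun t => cL (Coalgebra.counit (R := k)) ((ofDSub S).subtype.rTensor B t)) h0
  simp only [LinearMap.rTensor_tmul, Submodule.subtype_apply, cL_tmul] at h1
  have hkey : ∀ t : ↥(ofDSub S) ⊗[k] A,
      cL (Coalgebra.counit (R := k)) ((ofDSub S).subtype.rTensor B ((φ : A →ₗ[k] B).lTensor _ t)) =
        φ (cL (Coalgebra.counit (R := k)) ((ofDSub S).subtype.rTensor A t)) := fun t => by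
    induction t using TensorProduct.induction_on with
    | zero => simp
    | add x y hx hy => simp only [map_add, hx, hy]
    | tmul x y => simp
  have h2 := ComodSub.restr_coact_coe (inferInstance : HopfRep.Comod k A A) (ofDSub S) (isSubcomod_ofDSub S)
    ⟨a, mem_ofDSub.2 haS⟩
  rw [Algebra.algebraMap_eq_smul_one]
  refine Eq.trans (congrArg φ ?_) ((hkey _).symm.trans h1)
  refine Eq.trans ?_ (congrArg (cL (Coalgebra.counit (R := k))) h2).symm
  show a = TensorProduct.lid k A ((Coalgebra.counit (R := k) (A := A)).rTensor A (Coalgebra.comul (R := k) a))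
  rw [Coalgebra.rTensor_counit_comul]; simp

end Groth.Agent.RedLR
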