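import Groth.Agent.RedLR.Semi
import Groth.Agent.RedLR.Back
import Groth.Agent.S18813
import Groth.Agent.HopfCartier.Basic
import Groth.Agent.Chev.SepDesc
import Groth.Agent.Rigid.GeomFibre

/-!
# Reductive groups in characteristic zero are exactly the connected linearly reductive ones
-/

set_option autoImplicit false
set_option linter.unusedSectionVars false
set_option linter.style.haveILetI false
set_option backward.isDefEq.respectTransparency false
set_option synthInstance.maxHeartbeats 400000
set_option maxHeartbeats 1000000

universe u

open CategoryTheory CategoryTheory.Limits MonoidalCategory CartesianMonoidalCategory MonObj AlgebraicGeometry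
open TensorProduct
open Groth.Agent.MTBridge (specGrp)

noncomputable section

namespace Groth.Agent.RedLR

/-- Reductivity is invariant under isomorphisms of groups. -/
theorem isReductiveOver_of_iso {K : Type u} [Field K] {G G' : Over (Spec (CommRingCat.of K))} [GrpObj G] [GrpObj G']
    (e : G ≅ G') [IsMonHom e.hom] (h : Red.IsReductiveOver K G) : Red.IsReductiveOver K G' := by
  obtain ⟨ha, hs, hc, hU⟩ := h
  haveI := ha; haveI := hs; haveI := hc
  haveI : IsIso e.hom.left := inferInstanceAs (IsIso ((Over.forget _).map e.hom))
  haveI : IsIso e.inv.left := inferInstanceAs (IsIso ((Over.forget _).map e.inv))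
  refine ⟨IsAffine.of_isIso e.inv.left, ?_, ?_, fun U _ i _ hi hUs hUc hN hT => ?_⟩
  · rw [← Over.w e.inv]
    infer_instance
  · exact e.hom.left.homeomorph.surjective.connectedSpace e.hom.left.homeomorph.continuous
  · haveI := hi
    haveI : IsMonHom e.symm.hom := inferInstanceAs (IsMonHom e.inv)
    exact hU U (i ≫ e.inv) (inferInstanceAs (IsClosedImmersion (i.left ≫ e.inv.left))) hUs hUc
      (Chev.isNormalHom_comp_iso i e.symm hN) hT

variable {K : Type u} [Field K] [IsAlgClosed K] [CharZero K] {A : Type u} [CommRing A] [HopfAlgebra K A]
  [Algebra.FiniteType K A]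

theorem isDomain_of_connected (hc : ConnectedSpace (specGrp K A).X.left) : IsDomain A := by
  haveI : IsReduced A := Groth.Agent.HopfCartier.isReduced (k := K)
  haveI : ConnectedSpace (PrimeSpectrum A) := hc
  exact Groth.Agent.HopfDomain.isDomain (k := K) fun e he => GRingCpl.idem_trivial_of_connected e he

/-- Over an algebraically closed field of characteristic zero, reductive implies linearly reductive. -/
theorem isLinearlyReductive_of_over (hG : Red.IsReductiveOver K (specGrp K A).X) :
    HopfRep.IsLinearlyReductive K A := by
  haveI := isDomain_of_connected hG.2.2.1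
  obtain ⟨G⟩ := exists_gen hG
  exact isLinearlyReductive G

/-- Over an algebraically closed field of characteristic zero, connected and linearly reductive implies reductive. -/
theorem isReductiveOver_of_lr (hc : ConnectedSpace (specGrp K A).X.left) (hLR : HopfRep.IsLinearlyReductive K A) :
    Red.IsReductiveOver K (specGrp K A).X := by
  haveI : IsReduced A := Groth.Agent.HopfCartier.isReduced (k := K)
  exact ⟨inferInstanceAs (IsAffine (Spec (CommRingCat.of A))), smooth_spec, hc,
    fun U _ i _ hi hs hUc hN hT => isTrivialGrp_of_linearlyReductive hLR i hi hs hUc hN hT⟩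

section Base

variable {k : Type u} [Field k] {B : Type u} [CommRing B] [HopfAlgebra k B]

theorem finiteType_of_isReductive
    (hG : Red.IsReductive ((Spec (CommRingCat.of B)).asOver (Spec (CommRingCat.of k)))) : Algebra.FiniteType k B := by
  haveI := hG.2.1
  exact RingHom.finiteType_algebraMap.1 ((HasRingHomProperty.Spec_iff (P := @LocallyOfFiniteType)).1
    (inferInstance : LocallyOfFiniteType ((Spec (CommRingCat.of B)).asOver (Spec (CommRingCat.of k))).hom))

theorem connectedSpace_of_isReductive
    (hG : Red.IsReductive ((Spec (CommRingCat.of B)).asOver (Spec (CommRingCat.of k)))) :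
    ConnectedSpace (Spec (CommRingCat.of B)) := by
  let G := (Spec (CommRingCat.of B)).asOver (Spec (CommRingCat.of k))
  haveI := Groth.Agent.Rigid.geometricallyConnected_of_geomFibre G fun s => (hG.2.2 s).2.2.1
  exact GeometricallyConnected.geometrically_connectedSpace (f := G.hom) (𝟙 (Spec (CommRingCat.of k))) (𝟙 G.left) G.hom
    (IsPullback.id_horiz G.hom)

/-- The geometric fibre of an affine group over a field as a spectrum. -/
theorem exists_geomFibre_iso (s : (Spec (CommRingCat.of k) : Scheme.{u})) :
    ∃ (_ : Algebra k (AlgebraicClosure ((Spec (CommRingCat.of k)).residueField s))),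
      Nonempty (Grp.mk (Red.geomFibre s ((Spec (CommRingCat.of B)).asOver (Spec (CommRingCat.of k)))) ≅
        specGrp (AlgebraicClosure ((Spec (CommRingCat.of k)).residueField s))
          (AlgebraicClosure ((Spec (CommRingCat.of k)).residueField s) ⊗[k] B)) := by
  let L := AlgebraicClosure ((Spec (CommRingCat.of k)).residueField s)
  letI : Algebra k L := (Spec.preimage (Red.geomPt s)).hom.toAlgebra
  have hg : Red.geomPt s = Spec.map (CommRingCat.ofHom (algebraMap k L)) := (Spec.map_preimage _).symm
  obtain ⟨e⟩ := MTBridge.nonempty_bc_specGrp k L B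
  exact ⟨inferInstance, ⟨MTBridge.bcCongr hg ((Spec (CommRingCat.of B)).asOver (Spec (CommRingCat.of k))) ≪≫ e⟩⟩

/-- Reductivity along an isomorphism of group objects. -/
theorem isReductiveOver_of_grpIso {L : Type u} [Field L] {G G' : Grp (Over (Spec (CommRingCat.of L)))} (e : G ≅ G')
    (h : Red.IsReductiveOver L G.X) : Red.IsReductiveOver L G'.X := by
  let i : G.X ≅ G'.X := (Grp.forget _).mapIso e
  haveI : IsMonHom i.hom := e.hom.hom.isMonHom_hom
  exact isReductiveOver_of_iso i h

/-- Connectedness along an isomorphism of group objects. -/
theorem connectedSpace_of_grpIso {L : Type u} [Field L] {G G' : Grp (Over (Spec (CommRingCat.of L)))} (e : G ≅ G')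
    (h : ConnectedSpace G.X.left) : ConnectedSpace G'.X.left := by
  let i : G.X ≅ G'.X := (Grp.forget _).mapIso e
  haveI : IsIso i.hom.left := inferInstanceAs (IsIso ((Over.forget _).map i.hom))
  exact i.hom.left.homeomorph.surjective.connectedSpace i.hom.left.homeomorph.continuous

variable [CharZero k]

/-- A reductive group over a field of characteristic zero is linearly reductive. -/
theorem isLinearlyReductive_of_isReductive
    (hG : Red.IsReductive ((Spec (CommRingCat.of B)).asOver (Spec (CommRingCat.of k)))) :
    HopfRep.IsLinearlyReductive k B := by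
  haveI := finiteType_of_isReductive hG
  obtain ⟨s⟩ : Nonempty (PrimeSpectrum k) := inferInstance
  obtain ⟨_, ⟨e⟩⟩ := exists_geomFibre_iso (B := B) (k := k) s
  let L := AlgebraicClosure ((Spec (CommRingCat.of k)).residueField s)
  haveI : CharZero L := charZero_of_injective_algebraMap (algebraMap k L).injective
  exact (Groth.Agent.S18813.result k L B).2
    (isLinearlyReductive_of_over (isReductiveOver_of_grpIso e (hG.2.2 s)))

/-- A connected linearly reductive group over a field of characteristic zero is reductive. -/
theorem isReductive_of_lr [Algebra.FiniteType k B] [ConnectedSpace (Spec (CommRingCat.of B))]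
    (hLR : HopfRep.IsLinearlyReductive k B) :
    Red.IsReductive ((Spec (CommRingCat.of B)).asOver (Spec (CommRingCat.of k))) := by
  haveI : IsAffine ((Spec (CommRingCat.of B)).asOver (Spec (CommRingCat.of k))).left :=
    inferInstanceAs (IsAffine (Spec (CommRingCat.of B)))
  refine ⟨isAffineHom_of_isAffine _, smooth_spec, fun s => ?_⟩
  obtain ⟨_, ⟨e⟩⟩ := exists_geomFibre_iso (B := B) (k := k) s
  let L := AlgebraicClosure ((Spec (CommRingCat.of k)).residueField s)
  haveI : CharZero L := charZero_of_injective_algebraMap (algebraMap k L).injective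
  let G := (Spec (CommRingCat.of B)).asOver (Spec (CommRingCat.of k))
  haveI : ConnectedSpace G.left := ‹_›
  haveI : GeometricallyConnected G.hom :=
    Groth.Agent.Rigid.geometricallyConnected_of_section G.hom (η[G] : 𝟙_ _ ⟶ G).left (Over.w (η[G] : 𝟙_ _ ⟶ G))
  haveI hF : ConnectedSpace (Red.geomFibre s G).left :=
    GeometricallyConnected.geometrically_connectedSpace (f := G.hom) (Red.geomPt s) _ _
      (IsPullback.of_hasPullback G.hom (Red.geomPt s))
  exact isReductiveOver_of_grpIso e.symm
    (isReductiveOver_of_lr (connectedSpace_of_grpIso e hF) ((Groth.Agent.S18813.result k L B).1 hLR))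

end Base

end Groth.Agent.RedLR
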