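import Groth.Agent.RedLR.Closed
import Groth.Agent.Chev.BorelCover
import Groth.Agent.Chev.SolvTorus
import Groth.Agent.Comod.Change
import Groth.Agent.Comod.DualModule
import Groth.Agent.FinHopf.GrpScheme
import Groth.Agent.S5423

/-!
# Smooth connected affine groups without subtori are unipotent

Over an algebraically closed field every rational point lies in a Borel subgroup, which is unipotent when
there is no torus.
-/

set_option autoImplicit false
set_option linter.unusedSectionVars false
set_option linter.style.haveILetI false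
set_option backward.isDefEq.respectTransparency false
set_option synthInstance.maxHeartbeats 400000
set_option maxHeartbeats 1000000

universe u

open CategoryTheory CategoryTheory.Limits MonoidalCategory CartesianMonoidalCategory MonObj GrpObj AlgebraicGeometry
open TensorProduct WithConv
open Groth.Agent.MTBridge (specGrp)
open Groth.Agent.Comod
open scoped Groth.Agent.Comod

noncomputable section

namespace Groth.Agent.RedLR

variable {k : Type u} [Field k]

/-- Rational points of an affine group act through the dual algebra. -/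
def ptAct {A : Type u} [CommRing A] [HopfAlgebra k A] (V : Type u) [AddCommGroup V] [Module k V]
    [HopfRep.Comod k A V] : WithConv (A →ₐ[k] k) →* Module.End k V where
  toFun g := dact k A V (toConv g.ofConv.toLinearMap)
  map_one' := by
    rw [show toConv (AlgHom.toLinearMap (1 : WithConv (A →ₐ[k] k)).ofConv) = (1 : CDual k A) from ?_, map_one]
    ext a; simp [LinearMap.convOne_def, AlgHom.convOne_def, Algebra.algebraMap_eq_smul_one]
  map_mul' g g' := by rw [← map_mul]; congr 1

theorem ptAct_eq_act {A : Type u} [CommRing A] [HopfAlgebra k A] (V : Type u) [AddCommGroup V] [Module k V]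
    [HopfRep.Comod k A V] (g : A →ₐ[k] k) (v : V) : ptAct V (toConv g) v = HopfRep.Comod.act k A V g v := rfl

variable [IsAlgClosed k]

theorem isSolvable_points {A : Type u} [CommRing A] [HopfAlgebra k A] {G : Over (Spec (CommRingCat.of k))} [GrpObj G]
    (e : (Spec (CommRingCat.of A)).asOver (Spec (CommRingCat.of k)) ≅ G) [IsMonHom e.hom]
    [Group.IsSolvable (Chev.RP G)] : Group.IsSolvable (WithConv (A →ₐ[k] k)) :=
  Group.isSolvable_of_surjective (f := (Chev.ProjRep.ptsEquiv e).toMonoidHom)
    (Chev.ProjRep.ptsEquiv e).surjective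

/-- A connected solvable group without subtori is unipotent. -/
theorem isUnipotent_of_solvable {C : Type u} [CommRing C] [HopfAlgebra k C] [Algebra.FiniteType k C]
    [IsDomain C] [Group.IsSolvable (WithConv (C →ₐ[k] k))]
    (hT : ∀ (D : Type u) [CommRing D] [HopfAlgebra k D] (r : C →ₐc[k] D), Function.Surjective r →
      Red.IsTorus (specGrp k D).X → Function.Bijective (algebraMap k D)) :
    HopfRep.IsUnipotent k C := by
  have htrig := Groth.Agent.S3266.result k C fun x hx => IsIdempotentElem.iff_eq_zero_or_one.1 hx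
  obtain ⟨D, hDc, hDh, ψ, J, hJh, hψ, hdiag, hJ, hU⟩ := (Groth.Agent.S7967.result k C).1 htrig
  haveI := hJh
  have hD : SGA3b.IsDiag k D := MultT.isDiag_of_span hdiag
  obtain ⟨r, hr⟩ := Groth.Agent.S4128.result k C D hD ψ hψ J hJ hU
  have hrψ : ∀ b, r (ψ b) = b := DFunLike.congr_fun hr
  have hrs : Function.Surjective r := fun b => ⟨ψ b, hrψ b⟩
  haveI : Algebra.FiniteType k D := Algebra.FiniteType.of_surjective (r : C →ₐ[k] D) hrs
  haveI : IsDomain D := hψ.isDomain (ψ : D →ₐ[k] C).toRingHom
  have hbij := hT D r hrs (Chev.Borel.isTorus_spec hD)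
  have hJ0 : J = ⊥ := by
    rw [hJ, Ideal.map_eq_bot_iff_le_ker]
    intro b hb
    obtain ⟨c, rfl⟩ := hbij.2 b
    have h0 : c = 0 := by
      have : Bialgebra.counitAlgHom k D (algebraMap k D c) = 0 := hb
      rwa [AlgHom.commutes] at this
    simp [h0]
  intro V _ _ cV hfin hnt
  let q : C →ₐc[k] C ⧸ J := Bialgebra.Quotient.mkBialgHom J
  have hqinj : Function.Injective q := by
    intro a b hab
    have : a - b ∈ J := Ideal.Quotient.eq.1 hab
    rwa [hJ0, Ideal.mem_bot, sub_eq_zero] at this
  let cQ : HopfRep.Comod k (C ⧸ J) V := pushforward (q : C →ₗc[k] C ⧸ J) cV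
  obtain ⟨v, hv, hv0⟩ := (Submodule.ne_bot_iff _).1 (@hU V _ _ cQ hfin hnt)
  refine (Submodule.ne_bot_iff _).2 ⟨v, ?_, hv0⟩
  have hinj : Function.Injective ((q : C →ₗ[k] C ⧸ J).lTensor V) :=
    Module.Flat.lTensor_preserves_injective_linearMap _ hqinj
  refine hinj ?_
  rw [LinearMap.lTensor_tmul]
  exact hv.trans (congrArg (v ⊗ₜ[k] ·) (map_one q).symm)

/-- Smooth connected affine groups without subtori are unipotent. -/
theorem isUnipotent_of_hasNoSubtorus {A : Type u} [CommRing A] [HopfAlgebra k A] [Algebra.FiniteType k A]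
    [IsReduced A] {U : Over (Spec (CommRingCat.of k))} [GrpObj U] [Smooth U.hom] [ConnectedSpace U.left]
    (e : (Spec (CommRingCat.of A)).asOver (Spec (CommRingCat.of k)) ≅ U) [IsMonHom e.hom]
    (hU : Red.HasNoSubtorus k U) : HopfRep.IsUnipotent k A := by
  haveI : IsIso e.hom.left := inferInstanceAs (IsIso ((Over.forget _).map e.hom))
  haveI : IsAffine ((Spec (CommRingCat.of A)).asOver (Spec (CommRingCat.of k))).left :=
    inferInstanceAs (IsAffine (Spec (CommRingCat.of A)))
  haveI : IsAffine U.left := IsAffine.of_isIso (inv e.hom.left)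
  rw [Groth.Agent.S5423.result k A]
  intro g V _ _ cV hfin
  obtain ⟨B, hBg, iB, hB, -⟩ := Chev.Borel.exists_borel_proper U
  obtain ⟨x, b, hxb⟩ := Chev.Borel.exists_conj_mem_borel iB hB ((Chev.ProjRep.ptsEquiv e).symm (toConv g))
  obtain ⟨hm, hc, hs, hconn, hsol, -⟩ := hB
  haveI := hm; haveI := hc; haveI := hs; haveI := hconn
  haveI : IsAffine B.left := isAffine_of_isAffineHom iB.left
  haveI := Chev.Borel.isSolvable_rp hsol
  obtain ⟨C, _, eB, heB⟩ := FinHopf.exists_hopf (R := CommRingCat.of k) B
  haveI := heB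
  haveI : IsIso eB.hom.left := inferInstanceAs (IsIso ((Over.forget _).map eB.hom))
  haveI : Algebra.FiniteType k C := by
    have h0 : LocallyOfFiniteType (eB.hom.left ≫ B.hom) := inferInstance
    rw [Over.w eB.hom] at h0
    exact RingHom.finiteType_algebraMap.1 ((HasRingHomProperty.Spec_iff (P := @LocallyOfFiniteType)).1 h0)
  haveI : IsDomain C := Chev.Borel.isDomain_of_smooth_connected eB
  haveI := isSolvable_points (A := C) eB
  have hCu : HopfRep.IsUnipotent k C := by
    refine isUnipotent_of_solvable fun D _ _ r hr hD => ?_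
    let rT : (specGrp k D).X ⟶ (specGrp k C).X := Spec.mapMulEquiv (toConv (r : C →ₐ[k] D))
    haveI : IsMonHom rT := isMonHom_mapMulEquiv r
    haveI : IsClosedImmersion rT.left :=
      IsClosedImmersion.spec_of_surjective (CommRingCat.ofHom (r : C →ₐ[k] D).toRingHom) hr
    let j : (specGrp k D).X ⟶ U := rT ≫ eB.hom ≫ iB
    haveI : IsClosedImmersion j.left :=
      inferInstanceAs (IsClosedImmersion (rT.left ≫ eB.hom.left ≫ iB.left))
    haveI : Mono j := (Over.forget _).mono_of_mono_map (inferInstanceAs (Mono j.left))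
    haveI : IsMonHom j := by dsimp [j]; infer_instance
    exact bijective_of_isTrivialGrp (hU (specGrp k D).X j hD)
  let v : (specGrp k C).X ⟶ (specGrp k A).X := eB.hom ≫ iB ≫ e.inv
  haveI : IsMonHom v := by dsimp [v]; infer_instance
  obtain ⟨φ, hφ⟩ := MTBridge.exists_bialgHom v
  let n : WithConv (C →ₐ[k] k) := Chev.ProjRep.ptsEquiv eB b
  have hg : toConv g = Chev.ProjRep.ptsEquiv e x *
      toConv (n.ofConv.comp (φ : A →ₐ[k] C)) * (Chev.ProjRep.ptsEquiv e x)⁻¹ := by
    have h : Chev.ProjRep.ptsEquiv e (b ≫ iB) = toConv (n.ofConv.comp (φ : A →ₐ[k] C)) := by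
      apply (Chev.ProjRep.ptsEquiv e).symm.injective
      rw [MulEquiv.symm_apply_apply]
      conv_lhs => rw [← (Chev.ProjRep.ptsEquiv eB).symm_apply_apply b]
      show ((Chev.ProjRep.kIso k).hom ≫ _ ≫ eB.hom) ≫ iB = (Chev.ProjRep.kIso k).hom ≫ _ ≫ e.hom
      refine Over.OverMorphism.ext ?_
      have hl : eB.hom.left ≫ iB.left = v.left ≫ e.hom.left := by
        rw [← Over.comp_left, ← Over.comp_left, show v ≫ e.hom = eB.hom ≫ iB by simp [v]]
      show ((Chev.ProjRep.kIso k).hom.left ≫ Spec.map (CommRingCat.ofHom n.ofConv.toRingHom) ≫ eB.hom.left) ≫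
          iB.left = (Chev.ProjRep.kIso k).hom.left ≫
        Spec.map (CommRingCat.ofHom (n.ofConv.comp (φ : A →ₐ[k] C)).toRingHom) ≫ e.hom.left
      rw [Category.assoc, Category.assoc, hl, hφ, ← Spec.map_comp_assoc]
      rfl
    rw [← h, ← map_inv, ← map_mul, ← map_mul, hxb, MulEquiv.apply_symm_apply]
  let cC : HopfRep.Comod k C V := pushforward (φ : A →ₗc[k] C) cV
  have hnil : IsNilpotent (ptAct V (toConv (n.ofConv.comp (φ : A →ₐ[k] C))) - 1) := by
    have h := (@Groth.Agent.S5423.result k _ _ C _ _ _ _).1 hCu n.ofConv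
    have h' := @h V _ _ cC hfin
    have e1 : ptAct V (toConv (n.ofConv.comp (φ : A →ₐ[k] C))) = @HopfRep.Comod.act k C _ _ _ V _ _ cC n.ofConv := by
      refine LinearMap.ext fun w => ?_
      rw [ptAct_eq_act]
      show TensorProduct.rid k V ((n.ofConv.comp (φ : A →ₐ[k] C)).toLinearMap.lTensor V (cV.coact w)) =
        TensorProduct.rid k V (n.ofConv.toLinearMap.lTensor V ((φ : A →ₗ[k] C).lTensor V (cV.coact w)))
      rw [← LinearMap.lTensor_comp_apply]
      rfl
    rw [e1]
    exact h'
  have h2 : HopfRep.Comod.act k A V g - LinearMap.id = ptAct V (toConv g) - 1 := rfl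
  rw [h2, hg, map_mul, map_mul]
  obtain ⟨N, hN⟩ := hnil
  let p := ptAct V (Chev.ProjRep.ptsEquiv e x)
  let p' := ptAct V (Chev.ProjRep.ptsEquiv e x)⁻¹
  have hpp : p * p' = 1 := by rw [← map_mul, mul_inv_cancel, map_one]
  have hpp' : p' * p = 1 := by rw [← map_mul, inv_mul_cancel, map_one]
  refine ⟨N, ?_⟩
  have e2 : p * ptAct V (toConv (n.ofConv.comp (φ : A →ₐ[k] C))) * p' - 1 =
      p * (ptAct V (toConv (n.ofConv.comp (φ : A →ₐ[k] C))) - 1) * p' := by
    rw [mul_sub, sub_mul, _root_.mul_one, hpp]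
  rw [e2]
  have e3 : ∀ (T : Module.End k V) (i : ℕ), (p * T * p') ^ i = p * T ^ i * p' := fun T i => by
    induction i with
    | zero => rw [pow_zero, pow_zero, _root_.mul_one, hpp]
    | succ i ih =>
      rw [pow_succ, ih, pow_succ]
      calc p * T ^ i * p' * (p * T * p') = p * T ^ i * (p' * p) * T * p' := by simp only [_root_.mul_assoc]
        _ = p * (T ^ i * T) * p' := by rw [hpp']; simp only [_root_.mul_assoc, _root_.one_mul]
  rw [e3, hN, mul_zero, zero_mul]

end Groth.Agent.RedLR
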