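import Groth.Agent.MTBridge.Basic
import Groth.Agent.MTBridge.Hom
import Groth.Agent.GrpBasic.Cartier
import Groth.Agent.GRingCpl.ConnFibre
import Groth.Agent.S8000
import Mathlib.RingTheory.HopfAlgebra.Quotient
import Mathlib.RingTheory.Bialgebra.Quotient

/-!
# Closed subgroups of affine groups given by Hopf ideals
-/

set_option autoImplicit false
set_option maxHeartbeats 1600000
set_option linter.unusedSectionVars false
set_option linter.style.haveILetI false
set_option backward.isDefEq.respectTransparency false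

universe u

open CategoryTheory CategoryTheory.Limits MonoidalCategory CartesianMonoidalCategory MonObj GrpObj AlgebraicGeometry
open WithConv
open Groth.Agent.MTBridge (specGrp)

noncomputable section

namespace Groth.Agent.RedLR

variable {k : Type u} [Field k] {A : Type u} [CommRing A] [HopfAlgebra k A] (J : Ideal A) [J.IsHopfIdeal k]

/-- The inclusion of the closed subgroup cut out by a Hopf ideal. -/
def incl : (specGrp k (A ⧸ J)).X ⟶ (specGrp k A).X :=
  Spec.mapMulEquiv (toConv ((Bialgebra.Quotient.mkBialgHom (R := k) J : A →ₐc[k] A ⧸ J) : A →ₐ[k] A ⧸ J))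

theorem isMonHom_mapMulEquiv {A' B : Type u} [CommRing A'] [HopfAlgebra k A'] [CommRing B] [HopfAlgebra k B]
    (r : A' →ₐc[k] B) :
    IsMonHom (Spec.mapMulEquiv (toConv (r : A' →ₐ[k] B)) : (specGrp k B).X ⟶ (specGrp k A').X) :=
  ((hopfSpec (CommRingCat.of k)).map (CommHopfAlgCat.ofHom (X := A') (Y := B) r).op).hom.isMonHom_hom

instance isMonHom_incl : IsMonHom (incl (k := k) J) :=
  isMonHom_mapMulEquiv (k := k) (A' := A) (B := A ⧸ J) (Bialgebra.Quotient.mkBialgHom (R := k) J)

instance isClosedImmersion_incl : IsClosedImmersion (incl (k := k) J).left :=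
  IsClosedImmersion.spec_of_surjective (CommRingCat.ofHom (Ideal.Quotient.mk J)) Ideal.Quotient.mk_surjective

theorem locallyOfFiniteType_spec {B : Type u} [CommRing B] [HopfAlgebra k B] [Algebra.FiniteType k B] :
    LocallyOfFiniteType (specGrp k B).X.hom :=
  (HasRingHomProperty.Spec_iff (P := @LocallyOfFiniteType)).2 (RingHom.finiteType_algebraMap.2 inferInstance)

theorem smooth_spec [CharZero k] {B : Type u} [CommRing B] [HopfAlgebra k B] [Algebra.FiniteType k B] :
    Smooth (specGrp k B).X.hom := by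
  haveI := locallyOfFiniteType_spec (k := k) (B := B)
  letI : GrpObj (Over.mk (specGrp k B).X.hom) := inferInstanceAs (GrpObj (specGrp k B).X)
  exact Groth.Agent.Cartier.smooth_of_charZero _

theorem connected_spec {B : Type u} [CommRing B] [HopfAlgebra k B]
    (h : ∀ e : B, IsIdempotentElem e → e = 0 ∨ e = 1) : ConnectedSpace (specGrp k B).X.left :=
  haveI : Nontrivial B := (Bialgebra.counitAlgHom k B).toRingHom.domain_nontrivial
  GRingCpl.connectedSpace_of_idem h

/-- A trivial group has the base field as coordinate ring. -/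
theorem bijective_of_isTrivialGrp {B : Type u} [CommRing B] [HopfAlgebra k B]
    (h : Red.IsTrivialGrp (specGrp k B).X) : Function.Bijective (algebraMap k B) := by
  let φ : CommRingCat.of k ⟶ CommRingCat.of B := CommRingCat.ofHom (algebraMap k B)
  haveI : IsIso (Spec.map φ) := h
  haveI : IsIso φ := by
    have : IsIso (Scheme.Spec.map φ.op) := ‹IsIso (Spec.map φ)›
    have := isIso_of_fully_faithful Scheme.Spec φ.op
    exact isIso_of_op φ
  exact ConcreteCategory.bijective_of_isIso φ

/-- A Hopf ideal with trivial quotient is the augmentation ideal. -/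
theorem eq_aug_of_bijective (h : Function.Bijective (algebraMap k (A ⧸ J))) :
    J = RingHom.ker (Bialgebra.counitAlgHom k A) := by
  refine le_antisymm (fun x hx => (Ideal.IsHopfIdeal.toIsCoideal (R := k) (I := J)).counit_eq_zero hx) fun x hx => ?_
  obtain ⟨c, hc⟩ := h.2 (Ideal.Quotient.mk J x)
  have hmem : x - algebraMap k A c ∈ J := Ideal.Quotient.eq.1 hc.symm
  have h0 := (Ideal.IsHopfIdeal.toIsCoideal (R := k) (I := J)).counit_eq_zero hmem
  have hx0 : Bialgebra.counitAlgHom k A x = 0 := hx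
  have h1 : Bialgebra.counitAlgHom k A (x - algebraMap k A c) = 0 := h0
  rw [map_sub, hx0, AlgHom.commutes, zero_sub, neg_eq_zero] at h1
  obtain rfl : c = 0 := h1
  rw [map_zero, sub_zero] at hmem
  exact hmem

/-- Normality can be tested on the rational points. -/
theorem isNormalHom_incl [IsAlgClosed k] [CharZero k] [Algebra.FiniteType k A]
    (h : ∀ g n : WithConv (A →ₐ[k] k), (∀ x ∈ J, n.ofConv x = 0) → ∀ x ∈ J, (g * n * g⁻¹).ofConv x = 0) :
    AlgGrp.IsNormalHom (incl (k := k) J) := by
  haveI : Algebra.FiniteType k (A ⧸ J) :=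
    Algebra.FiniteType.of_surjective (Ideal.Quotient.mkₐ k J) Ideal.Quotient.mk_surjective
  haveI := locallyOfFiniteType_spec (k := k) (B := A)
  haveI := locallyOfFiniteType_spec (k := k) (B := A ⧸ J)
  haveI := smooth_spec (k := k) (B := A)
  haveI : QuasiCompact (specGrp k A).X.hom := inferInstanceAs (QuasiCompact (Spec.map (CommRingCat.ofHom (algebraMap k A))))
  haveI : QuasiCompact (specGrp k (A ⧸ J)).X.hom := inferInstanceAs (QuasiCompact (Spec.map (CommRingCat.ofHom (algebraMap k (A ⧸ J)))))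
  haveI := smooth_spec (k := k) (B := A ⧸ J)
  refine Groth.Agent.S8000.result k k (specGrp k A).X (specGrp k (A ⧸ J)).X (incl J) fun g n => ?_
  obtain ⟨g', rfl⟩ : ∃ g' : WithConv (A →ₐ[k] k), (Spec.mapMulEquiv g' : _ ⟶ (specGrp k A).X) = g :=
    ⟨_, Spec.mapMulEquiv.apply_symm_apply _⟩
  obtain ⟨n', rfl⟩ : ∃ n' : WithConv (A ⧸ J →ₐ[k] k), (Spec.mapMulEquiv n' : _ ⟶ (specGrp k (A ⧸ J)).X) = n :=
    ⟨_, Spec.mapMulEquiv.apply_symm_apply _⟩
  let n₁ : WithConv (A →ₐ[k] k) := toConv (n'.ofConv.comp (Ideal.Quotient.mkₐ k J))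
  have hn : (Spec.mapMulEquiv n' : _ ⟶ (specGrp k (A ⧸ J)).X) ≫ incl J = Spec.mapMulEquiv n₁ := by
    refine Over.OverMorphism.ext ?_
    show Spec.map _ ≫ Spec.map _ = Spec.map _
    rw [← Spec.map_comp]
    rfl
  have hz : ∀ x ∈ J, (g' * n₁ * g'⁻¹).ofConv x = 0 := h g' n₁ fun x hx => by
    show n'.ofConv (Ideal.Quotient.mk J x) = 0
    rw [Ideal.Quotient.eq_zero_iff_mem.2 hx, map_zero]
  refine ⟨Spec.mapMulEquiv (toConv (Ideal.Quotient.liftₐ J (g' * n₁ * g'⁻¹).ofConv hz)), ?_⟩
  rw [hn]
  refine Eq.trans ((congrArg₂ (· * ·) (map_mul Spec.mapMulEquiv g' n₁).symm (map_inv Spec.mapMulEquiv g').symm).trans (map_mul Spec.mapMulEquiv (g' * n₁) g'⁻¹).symm) ?_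
  refine Over.OverMorphism.ext ?_
  show Spec.map _ = Spec.map _ ≫ Spec.map _
  rw [← Spec.map_comp]
  rfl

end Groth.Agent.RedLR
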