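import Groth.Agent.RedLR.Casimir
import Groth.Agent.RedLR.Closed
import Groth.Agent.Comod.Semisimple
import Groth.Agent.UnipConil.Basic
import Groth.Agent.UnipFilt.Basic
import Groth.Agent.Chev.SolvTorus
import Groth.Agent.S2966
import Groth.Agent.S3265

/-!
# Reductive groups in characteristic zero have faithful semisimple representations

The common kernel of all simple representations is a normal unipotent subgroup; it is smooth and connected, so
trivial for a reductive group.
-/

set_option autoImplicit false
set_option linter.unusedSectionVars false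
set_option linter.style.haveILetI false
set_option backward.isDefEq.respectTransparency false
set_option synthInstance.maxHeartbeats 400000
set_option maxHeartbeats 1000000

universe u

open CategoryTheory MonoidalCategory CartesianMonoidalCategory MonObj AlgebraicGeometry
open TensorProduct Coalgebra
open Groth.Agent.Comod
open scoped Groth.Agent.Comod
open Groth.Agent.MTBridge (specGrp)

noncomputable section

namespace Groth.Agent.RedLR

variable (k : Type u) [Field k] (A : Type u) [CommRing A] [HopfAlgebra k A]

/-- The sum of all simple subcomodules of the coordinate ring. -/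
def socle : Submodule (CDual k A) A := sSup {m : Submodule (CDual k A) A | IsSimpleModule (CDual k A) m}

/-- The ideal of the common kernel of all simple representations. -/
def radIdeal : Ideal A :=
  Ideal.span {x | ∃ c ∈ socle k A, x = c - algebraMap k A (counit (R := k) c)}

variable {k A}

theorem map_socle_le {V : Type u} [AddCommGroup V] [Module k V] [HopfRep.Comod k A V]
    {m : Submodule (CDual k A) V} [IsSimpleModule (CDual k A) m] (φ : V →ₗ[k] k) {v : V} (hv : v ∈ m) :
    cL φ (HopfRep.Comod.coact (k := k) (A := A) v) ∈ socle k A := by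
  have h : cL φ (HopfRep.Comod.coact (k := k) (A := A) v) ∈
      cf (C := A) (ofDSub m) := mem_cf_of_mem φ (show v ∈ ofDSub m from hv)
  have h2 := cf_le_sSup_copies m h
  exact (sSup_le_sSup fun n hn => hn.1 : (_ : Submodule (CDual k A) A) ≤ socle k A) (mem_ofDSub.1 h2)

/-- The socle is stable under left translations, hence a subcoalgebra. -/
theorem socle_subcoalgebra {c : A} (hc : c ∈ socle k A) :
    (∀ f : A →ₗ[k] k, cR f (comul (R := k) c) ∈ socle k A) ∧
      ∀ f : A →ₗ[k] k, cL f (comul (R := k) c) ∈ socle k A := by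
  refine ⟨fun f => (socle k A).smul_mem (WithConv.toConv f) hc, fun f => ?_⟩
  have h : socle k A ≤ (socle k A).comap (toDHom _ (isComodHom_coeff (C := A) (V := A) f)) :=
    sSup_le fun m hm v hv => by
      haveI : IsSimpleModule (CDual k A) m := hm
      exact map_socle_le f hv
  exact h hc

theorem comul_mem_socle {c : A} (hc : c ∈ socle k A) :
    comul (R := k) c ∈ LinearMap.range (TensorProduct.map (ofDSub (socle k A)).subtype (ofDSub (socle k A)).subtype) :=
  (mem_range_map_iff _ _ _).2 (socle_subcoalgebra hc)

theorem counit_sub {c : A} :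
    counit (R := k) (c - algebraMap k A (counit (R := k) c)) = 0 := by
  show Bialgebra.counitAlgHom k A (c - algebraMap k A (counit (R := k) c)) = 0
  rw [map_sub, AlgHom.commutes]
  exact sub_self _

theorem mk_socle {c : A} (hc : c ∈ socle k A) :
    Ideal.Quotient.mkₐ k (radIdeal k A) c = algebraMap k _ (counit (R := k) c) := by
  rw [← (Ideal.Quotient.mkₐ k (radIdeal k A)).commutes]
  exact Ideal.Quotient.eq.2 (Ideal.subset_span ⟨c, hc, rfl⟩)

theorem map_mk_socle {c : A} (hc : c ∈ socle k A) :
    Algebra.TensorProduct.map (Ideal.Quotient.mkₐ k (radIdeal k A)) (Ideal.Quotient.mkₐ k (radIdeal k A))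
      (comul (R := k) c) = algebraMap k _ (counit (R := k) c) := by
  have key : ∀ t : A ⊗[k] A, (t ∈ LinearMap.range (TensorProduct.map (ofDSub (socle k A)).subtype
      (ofDSub (socle k A)).subtype)) →
      Algebra.TensorProduct.map (Ideal.Quotient.mkₐ k (radIdeal k A)) (Ideal.Quotient.mkₐ k (radIdeal k A)) t =
        algebraMap k _ (counit (R := k) (TensorProduct.lid k A ((counit (R := k) (A := A)).rTensor A t))) := by
    rintro _ ⟨z, rfl⟩
    induction z using TensorProduct.induction_on with
    | zero => simp
    | add a b ha hb => simp only [map_add, ha, hb]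
    | tmul a b =>
      simp only [TensorProduct.map_tmul, Submodule.subtype_apply, Algebra.TensorProduct.map_tmul,
        mk_socle (mem_ofDSub.1 a.2), mk_socle (mem_ofDSub.1 b.2), LinearMap.rTensor_tmul, TensorProduct.lid_tmul,
        map_smul, smul_eq_mul, map_mul, Algebra.algebraMap_eq_smul_one, Algebra.TensorProduct.one_def,
        TensorProduct.smul_tmul', TensorProduct.tmul_smul, mul_smul]
      simp only [← TensorProduct.smul_tmul', Algebra.TensorProduct.tmul_mul_tmul, _root_.mul_one, smul_smul, smul_mul_assoc,
        mul_smul_comm]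
  rw [key _ (comul_mem_socle hc), Coalgebra.rTensor_counit_comul]
  simp

instance isHopfIdeal_radIdeal : (radIdeal k A).IsHopfIdeal k := by
  have hε : ∀ x ∈ radIdeal k A, counit (R := k) x = 0 := fun x hx =>
    (show radIdeal k A ≤ RingHom.ker (Bialgebra.counitAlgHom k A) from Ideal.span_le.2 (by
      rintro _ ⟨c, -, rfl⟩
      exact counit_sub)) hx
  have hcoideal : ((radIdeal k A).restrictScalars k).IsCoideal := by
    refine ⟨fun x hx => hε x hx, fun x hx => ?_⟩
    let P := Ideal.Quotient.mkₐ k (radIdeal k A)
    let ψ : A →ₐ[k] (A ⧸ radIdeal k A) ⊗[k] (A ⧸ radIdeal k A) :=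
      (Algebra.TensorProduct.map P P).comp (Bialgebra.comulAlgHom k A)
    have hψ : ψ x = 0 := (show radIdeal k A ≤ RingHom.ker ψ from Ideal.span_le.2 (by
      rintro _ ⟨c, hc, rfl⟩
      show ψ (c - algebraMap k A (counit (R := k) c)) = 0
      rw [map_sub, AlgHom.commutes, sub_eq_zero]
      exact map_mk_socle hc)) hx
    let e : (A ⧸ radIdeal k A) ≃ₗ[k] (A ⧸ (radIdeal k A).restrictScalars k) :=
      (Submodule.Quotient.restrictScalarsEquiv k (radIdeal k A)).symm
    have he : ∀ t, TensorProduct.map ((radIdeal k A).restrictScalars k).mkQ ((radIdeal k A).restrictScalars k).mkQ t =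
        TensorProduct.map e.toLinearMap e.toLinearMap (Algebra.TensorProduct.map P P t) := fun t => by
      induction t using TensorProduct.induction_on with
      | zero => simp
      | add a b ha hb => simp only [map_add, ha, hb]
      | tmul a b => rfl
    rw [he]
    show TensorProduct.map _ _ (ψ x) = 0
    rw [hψ, map_zero]
  refine { toIsCoideal := hcoideal, antipode_mem := fun x hx => ?_ }
  have hle : radIdeal k A ≤ RingHom.ker ((Ideal.Quotient.mkₐ k (radIdeal k A)).comp
      (HopfAlgebra.antipodeAlgHom k A)) := Ideal.span_le.2 (by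
    rintro _ ⟨c, hc, rfl⟩
    let P := Ideal.Quotient.mkₐ k (radIdeal k A)
    show P (HopfAlgebra.antipodeAlgHom k A (c - algebraMap k A (counit (R := k) c))) = 0
    rw [map_sub, map_sub, AlgHom.commutes, AlgHom.commutes, sub_eq_zero]
    have h := congrArg P (HopfAlgebra.mul_antipode_rTensor_comul_apply (R := k) c)
    rw [AlgHom.commutes] at h
    rw [← h]
    have hid : c = TensorProduct.rid k A ((counit (R := k) (A := A)).lTensor A (comul (R := k) c)) := by
      rw [Coalgebra.lTensor_counit_comul]; simp
    conv_lhs => rw [hid]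
    obtain ⟨z, hz⟩ := comul_mem_socle hc
    rw [← hz]
    clear hz h hid
    induction z using TensorProduct.induction_on with
    | zero => simp
    | add a b ha hb => simp only [map_add, ha, hb]
    | tmul a b =>
      simp only [TensorProduct.map_tmul, Submodule.subtype_apply, LinearMap.lTensor_tmul, TensorProduct.rid_tmul,
        LinearMap.rTensor_tmul, LinearMap.mul'_apply, map_mul, map_smul]
      rw [show P (b : A) = algebraMap k _ (counit (R := k) (b : A)) from mk_socle (mem_ofDSub.1 b.2), Algebra.smul_def,
        mul_comm]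
      rfl)
  exact Ideal.Quotient.eq_zero_iff_mem.1 (hle hx)

/-- The common kernel of the simple representations is unipotent. -/
theorem isUnipotent_radIdeal : HopfRep.IsUnipotent k (A ⧸ radIdeal k A) := by
  refine UnipConil.isUnipotent_of_conil fun a => ?_
  let q := Bialgebra.Quotient.mkBialgHom (R := k) (radIdeal k A)
  have key : ∀ (n : ℕ) (V : Type u) [AddCommGroup V] [Module k V] [HopfRep.Comod k A V] [Module.Finite k V],
      Module.finrank k V ≤ n → ∀ (φ : V →ₗ[k] k) (v : V),
        q (cL φ (HopfRep.Comod.coact (k := k) (A := A) v)) ∈ UnipConil.filt k (A ⧸ radIdeal k A) n := by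
    intro n
    induction n with
    | zero =>
      intro V _ _ _ _ hn φ v
      haveI : Subsingleton V := Module.finrank_zero_iff.1 (Nat.le_zero.1 hn)
      rw [Subsingleton.elim v 0, map_zero, map_zero, map_zero]
      exact zero_mem _
    | succ n ih =>
      intro V _ _ _ _ hn φ v
      rw [UnipConil.mem_filt_succ]
      intro f g hf hg
      let f' : CDual k A := WithConv.toConv (f ∘ₗ (q : A →ₐ[k] A ⧸ radIdeal k A).toLinearMap)
      let g' : CDual k A := WithConv.toConv (g ∘ₗ (q : A →ₐ[k] A ⧸ radIdeal k A).toLinearMap)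
      have hpair : UnipConil.pair k (A ⧸ radIdeal k A) f g
          (q (cL φ (HopfRep.Comod.coact (k := k) (A := A) v))) = φ (dact k A V f' (dact k A V g' v)) := by
        rw [← Module.End.mul_apply, ← map_mul, ← apply_cL_coact, UnipConil.pair_eq_cR]
        rw [show f (cR g (comul (R := k) (q (cL φ (HopfRep.Comod.coact (k := k) (A := A) v))))) =
          f (cR g (TensorProduct.map (q : A →ₗ[k] A ⧸ radIdeal k A) (q : A →ₗ[k] A ⧸ radIdeal k A)
            (comul (R := k) (cL φ (HopfRep.Comod.coact (k := k) (A := A) v))))) by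
          rw [← CoalgHomClass.map_comp_comul_apply q]]
        rw [LinearMap.convMul_def]
        show _ = LinearMap.mul' k k (TensorProduct.map f'.ofConv g'.ofConv (comul (R := k) _))
        generalize comul (R := k) (cL φ (HopfRep.Comod.coact (k := k) (A := A) v)) = t
        induction t using TensorProduct.induction_on with
        | zero => simp
        | add a b ha hb => simp only [map_add, ha, hb]
        | tmul a b => simp [f', g', mul_comm]
      rw [hpair]
      rcases subsingleton_or_nontrivial V with hV | hV
      · rw [Subsingleton.elim (dact k A V f' (dact k A V g' v)) 0, map_zero]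
      haveI : IsArtinian (CDual k A) V := isArtinian_of_tower k inferInstance
      obtain ⟨m, hm, -⟩ := (eq_bot_or_exists_atom_le (⊤ : Submodule (CDual k A) V)).resolve_left top_ne_bot
      haveI : IsSimpleModule (CDual k A) m := isSimpleModule_iff_isAtom.2 hm
      have hne : ofDSub m ≠ ⊥ := fun h => hm.1 (ofDSub_eq_bot.1 h)
      have hgm : dact k A V g' v ∈ m := by
        letI := ComodSub.Comod.quot (inferInstance : HopfRep.Comod k A V) (ofDSub m) (isSubcomod_ofDSub m)
        have hlt : Module.finrank k (V ⧸ ofDSub m) ≤ n := by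
          have h1 := (ofDSub m).finrank_quotient_add_finrank
          have h2 : 0 < Module.finrank k ↥(ofDSub m) :=
            Nat.pos_of_ne_zero fun h => hne (Submodule.finrank_eq_zero.1 h)
          omega
        refine (Submodule.Quotient.mk_eq_zero (ofDSub m)).1
          ((Module.forall_dual_apply_eq_zero_iff k _).1 fun ψ => ?_)
        rw [show (Submodule.Quotient.mk (dact k A V g' v) : V ⧸ ofDSub m) =
          dact k A (V ⧸ ofDSub m) g' ((ofDSub m).mkQ v) from
            isComodHom_iff.mp (ComodSub.isComodHom_mkQ (inferInstance : HopfRep.Comod k A V) (ofDSub m)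
              (isSubcomod_ofDSub m)) g' v, ← apply_cL_coact]
        exact hg _ (ih _ hlt ψ _)
      have hkill : ∀ w ∈ m, dact k A V f' w = 0 := fun w hw =>
        (Module.forall_dual_apply_eq_zero_iff k _).1 fun ψ => by
          rw [← apply_cL_coact]
          show f (q (cL ψ (HopfRep.Comod.coact (k := k) (A := A) w))) = 0
          rw [show q (cL ψ (HopfRep.Comod.coact (k := k) (A := A) w)) =
            algebraMap k _ (counit (R := k) (cL ψ (HopfRep.Comod.coact (k := k) (A := A) w))) from
            mk_socle (map_socle_le ψ hw), Algebra.algebraMap_eq_smul_one, map_smul, hf, smul_zero]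
      rw [hkill _ hgm, map_zero]
  obtain ⟨b, rfl⟩ := Ideal.Quotient.mk_surjective a
  obtain ⟨S, hbS, hfin⟩ := exists_finite_subcomod (K := k) (C := A) b
  letI := subCom S
  refine ⟨Module.finrank k ↥(ofDSub S), ?_⟩
  have h := key _ ↥(ofDSub S) le_rfl ((counit (R := k)).comp (ofDSub S).subtype) ⟨b, hbS⟩
  refine Eq.subst (motive := fun x => x ∈ UnipConil.filt k (A ⧸ radIdeal k A) _) ?_ h
  show q _ = Ideal.Quotient.mk _ b
  have h1 := ComodSub.restr_coact_coe (inferInstance : HopfRep.Comod k A A) (ofDSub S) (isSubcomod_ofDSub S) ⟨b, hbS⟩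
  have hcl : ∀ t : ↥(ofDSub S) ⊗[k] A, cL ((counit (R := k)).comp (ofDSub S).subtype) t =
      cL (counit (R := k)) ((ofDSub S).subtype.rTensor A t) := fun t => by
    induction t using TensorProduct.induction_on with
    | zero => simp
    | add x y hx hy => simp only [map_add, hx, hy]
    | tmul x y => simp
  rw [hcl, h1]
  refine congrArg q ?_
  show TensorProduct.lid k A ((counit (R := k) (A := A)).rTensor A (comul (R := k) b)) = b
  rw [Coalgebra.rTensor_counit_comul]; simp

theorem apply_eq_counit {n : A →ₐ[k] k} (h : ∀ x ∈ radIdeal k A, n x = 0) {c : A} (hc : c ∈ socle k A) :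
    n c = counit (R := k) c := by
  have := h _ (Ideal.subset_span ⟨c, hc, rfl⟩)
  rwa [map_sub, AlgHom.commutes, Algebra.algebraMap_self, RingHom.id_apply, sub_eq_zero] at this

/-- The common kernel is normal. -/
theorem conj_mem (g n : WithConv (A →ₐ[k] k)) (hn : ∀ x ∈ radIdeal k A, n.ofConv x = 0) :
    ∀ x ∈ radIdeal k A, (g * n * g⁻¹).ofConv x = 0 := by
  have hkey : ∀ c ∈ socle k A, (g * n).ofConv c = g.ofConv c := by
    intro c hc
    rw [AlgHom.convMul_apply]
    have hid : c = TensorProduct.rid k A ((counit (R := k) (A := A)).lTensor A (comul (R := k) c)) := by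
      rw [Coalgebra.lTensor_counit_comul]; simp
    conv_rhs => rw [hid]
    obtain ⟨z, hz⟩ := comul_mem_socle hc
    rw [← hz]
    clear hz hid
    induction z using TensorProduct.induction_on with
    | zero => simp
    | add a b ha hb => simp only [map_add, ha, hb]
    | tmul a b => simp [apply_eq_counit hn (mem_ofDSub.1 b.2), mul_comm]
  suffices hle : radIdeal k A ≤ RingHom.ker (g * n * g⁻¹).ofConv from fun x hx => hle hx
  refine Ideal.span_le.2 ?_
  rintro _ ⟨c, hc, rfl⟩
  show (g * n * g⁻¹).ofConv (c - algebraMap k A (counit (R := k) c)) = 0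
  rw [map_sub, AlgHom.commutes, Algebra.algebraMap_self, RingHom.id_apply, sub_eq_zero]
  calc (g * n * g⁻¹).ofConv c = (g * g⁻¹).ofConv c := by
        rw [AlgHom.convMul_apply, AlgHom.convMul_apply]
        obtain ⟨z, hz⟩ := comul_mem_socle hc
        rw [← hz]
        clear hz
        induction z using TensorProduct.induction_on with
        | zero => simp
        | add a b ha hb => simp only [map_add, ha, hb]
        | tmul a b => simp [hkey _ (mem_ofDSub.1 a.2)]
    _ = counit (R := k) c := by
        rw [mul_inv_cancel]; simp [AlgHom.convOne_apply]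

theorem isTrivialGrp_of_eq_one {T G : Over (Spec (CommRingCat.of k))} [GrpObj T] [GrpObj G] (j : T ⟶ G)
    [IsMonHom j] [Mono j] (h : j = 1) : Red.IsTrivialGrp T := by
  have h1 : 𝟙 T = toUnit T ≫ η[T] := (cancel_mono j).1 (by
    rw [Category.id_comp, Category.assoc, IsMonHom.one_hom, h, Hom.one_def])
  haveI : IsIso (toUnit T) := ⟨η[T], h1.symm, toUnit_unique _ _⟩
  show IsIso T.hom
  have : IsIso ((Over.forget _).map (toUnit T)) := inferInstance
  exact this

/-- A unipotent group has no subtori. -/
theorem hasNoSubtorus_of_unipotent [IsAlgClosed k] {U : Type u} [CommRing U] [HopfAlgebra k U]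
    [Algebra.FiniteType k U] (hU : HopfRep.IsUnipotent k U) : Red.HasNoSubtorus k (specGrp k U).X := by
  intro T _ j _ _ hT
  obtain ⟨B, _, _, e, he, hft, -, ⟨M, _, ⟨E⟩⟩⟩ := Chev.Borel.exists_hopf_torus hT
  haveI := he; haveI := hft
  let v : (specGrp k B).X ⟶ (specGrp k U).X := e.hom ≫ j
  haveI : IsMonHom v := by dsimp [v]; infer_instance
  obtain ⟨φ, hφ⟩ := MTBridge.exists_bialgHom v
  have hdiag : HopfRep.IsDiagonalizable (AlgebraicClosure k) (AlgebraicClosure k ⊗[k] B) := by
    show Submodule.span _ _ = ⊤
    rw [eq_top_iff]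
    intro x hx
    clear hx
    induction x using TensorProduct.induction_on with
    | zero => exact zero_mem _
    | add a b ha hb => exact add_mem ha hb
    | tmul l b =>
      obtain ⟨y, rfl⟩ := (E.symm : MonoidAlgebra k M ≃ₐc[k] B).surjective b
      show l ⊗ₜ[k] (E.symm : MonoidAlgebra k M →ₐc[k] B) y ∈ _
      induction y using MonoidAlgebra.induction_linear with
      | zero => rw [map_zero, TensorProduct.tmul_zero]; exact zero_mem _
      | add a b ha hb => rw [map_add, TensorProduct.tmul_add]; exact add_mem ha hb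
      | single m d =>
        rw [show MonoidAlgebra.single m d = d • MonoidAlgebra.single m (1 : k) by simp, map_smul,
          TensorProduct.tmul_smul, TensorProduct.smul_tmul', ← _root_.mul_one (d • l), ← smul_eq_mul,
          ← TensorProduct.smul_tmul']
        refine Submodule.smul_mem _ _ (Submodule.subset_span ?_)
        have hg := (MonoidAlgebra.isGroupLikeElem_single_one (R := k) (A := k) m).map
          (E.symm : MonoidAlgebra k M →ₐc[k] B)
        refine ⟨?_, ?_⟩
        · rw [TensorProduct.counit_tmul]
          show counit (R := k) ((E.symm : MonoidAlgebra k M →ₐc[k] B) (MonoidAlgebra.single m 1)) • counit (R := AlgebraicClosure k) (1 : AlgebraicClosure k) = 1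
          rw [show counit (R := k) ((E.symm : MonoidAlgebra k M →ₐc[k] B) (MonoidAlgebra.single m 1)) = 1 from hg.counit_eq_one, one_smul]
          exact Bialgebra.counit_one
        · rw [TensorProduct.comul_tmul,
            show comul (R := k) ((E.symm : MonoidAlgebra k M →ₐc[k] B) (MonoidAlgebra.single m 1)) = _ from hg.comul_eq_tmul_self]
          simp
  have htriv := (Groth.Agent.S2966.result hdiag hU).1 φ
  refine isTrivialGrp_of_eq_one j ?_
  haveI : IsMonHom e.hom := he
  rw [← cancel_epi e.hom, MonObj.comp_one]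
  refine Over.OverMorphism.ext ?_
  show v.left = _
  rw [hφ]
  have : (φ : U →ₐ[k] B) = (WithConv.ofConv (1 : WithConv (U →ₐ[k] B))) := AlgHom.ext fun a => by
    rw [AlgHom.convOne_apply]; exact htriv a
  rw [this]
  exact congrArg (fun x => x.left) (Spec.mapMulEquiv (R := k) (S := U) (T := B)).map_one

/-- A connected group over an algebraically closed field of characteristic zero, with trivial unipotent
radical, has a faithful semisimple representation. -/
theorem exists_gen [IsAlgClosed k] [CharZero k] [Algebra.FiniteType k A]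
    (hG : Red.IsReductiveOver k (specGrp k A).X) : Nonempty (Gen k A) := by
  classical
  let J := radIdeal k A
  haveI : Algebra.FiniteType k (A ⧸ J) :=
    Algebra.FiniteType.of_surjective (Ideal.Quotient.mkₐ k J) Ideal.Quotient.mk_surjective
  have hU := isUnipotent_radIdeal (k := k) (A := A)
  have hJ : J = RingHom.ker (Bialgebra.counitAlgHom k A) :=
    eq_aug_of_bijective J (bijective_of_isTrivialGrp (hG.2.2.2 (specGrp k (A ⧸ J)).X (incl J)
      inferInstance smooth_spec (connected_spec fun e he => Groth.Agent.S3265.result k (A ⧸ J) hU e he)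
      (isNormalHom_incl J conj_mem) (hasNoSubtorus_of_unipotent hU)))
  haveI : IsNoetherianRing A := Algebra.FiniteType.isNoetherianRing k A
  -- finitely many socle elements suffice
  obtain ⟨T, hTsub, hTspan⟩ : ∃ T : Finset A, (T : Set A) ⊆ socle k A ∧
      RingHom.ker (Bialgebra.counitAlgHom k A) ≤
        Ideal.span ((fun c => c - algebraMap k A (counit (R := k) c)) '' (T : Set A)) := by
    obtain ⟨T₀, hT₀⟩ := IsNoetherian.noetherian (R := A) (RingHom.ker (Bialgebra.counitAlgHom k A))
    have : ∀ x ∈ T₀, ∃ s : Finset A, (s : Set A) ⊆ socle k A ∧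
        x ∈ Ideal.span ((fun c => c - algebraMap k A (counit (R := k) c)) '' (s : Set A)) := by
      intro x hx
      have hxJ : x ∈ J := hJ.symm ▸ hT₀ ▸ Submodule.subset_span hx
      have hset : {x | ∃ c ∈ socle k A, x = c - algebraMap k A (counit (R := k) c)} =
          (fun c => c - algebraMap k A (counit (R := k) c)) '' (socle k A : Set A) := by
        ext y; simp [eq_comm]
      change x ∈ Ideal.span _ at hxJ
      rw [hset] at hxJ
      obtain ⟨s', hs', hxs⟩ := Submodule.mem_span_finite_of_mem_span hxJ
      obtain ⟨s, hs, hseq⟩ := Finset.subset_set_image_iff.1 hs'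
      exact ⟨s, hs, by rw [← Finset.coe_image, hseq]; exact hxs⟩
    choose! s hs hxs using this
    refine ⟨T₀.biUnion s, fun c hc => ?_, ?_⟩
    · obtain ⟨x, hx, hc⟩ := Finset.mem_biUnion.1 hc
      exact hs x hx hc
    · rw [← hT₀, Submodule.span_le]
      intro x hx
      refine Ideal.span_mono (Set.image_mono ?_) (hxs x hx)
      intro c hc
      exact Finset.mem_coe.2 (Finset.mem_biUnion.2 ⟨x, hx, hc⟩)
  -- a finite sum of simples containing them, and its subcoalgebra
  have hsim : ∀ c ∈ T, ∃ M : Finset {m : Submodule (CDual k A) A // IsSimpleModule (CDual k A) m},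
      c ∈ ⨆ m ∈ M, (m : Submodule (CDual k A) A) := by
    intro c hc
    have h : c ∈ ⨆ m : {m : Submodule (CDual k A) A // IsSimpleModule (CDual k A) m},
        (m : Submodule (CDual k A) A) := by
      have h := hTsub hc
      rw [socle, sSup_eq_iSup'] at h
      exact h
    exact Submodule.mem_iSup_iff_exists_finset.1 h
  choose! M hM using hsim
  let M' := T.biUnion M
  let P : Submodule (CDual k A) A := ⨆ m : M', (m : Submodule (CDual k A) A)
  have hfinm : ∀ m : M', Module.Finite k ↥(ofDSub (m : Submodule (CDual k A) A)) := by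
    rintro ⟨⟨m, hm⟩, -⟩
    haveI := hm
    obtain ⟨N, hN, hNs, hNfin⟩ := exists_simple_le (S := m) (isSimpleModule_iff_isAtom.1 hm).1
    have : N = m := ((isSimpleModule_iff_isAtom.1 hm).le_iff.1 hN).resolve_left (isSimpleModule_iff_isAtom.1 hNs).1
    exact this ▸ hNfin
  haveI : Module.Finite k ↥(ofDSub P) := by
    show Module.Finite k ↥(ofDSub (⨆ m : M', (m : Submodule (CDual k A) A)))
    rw [ofDSub_iSup]
    exact Submodule.finite_iSup _
  have hTP : ∀ c ∈ T, c ∈ P := fun c hc => by
    refine (iSup₂_le fun m hm => ?_ : (⨆ m ∈ M c, (m : Submodule (CDual k A) A)) ≤ P) (hM c hc)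
    exact le_iSup (fun m : M' => (m : Submodule (CDual k A) A)) ⟨m, Finset.mem_biUnion.2 ⟨c, hc, hm⟩⟩
  let D' : Submodule k A := cf (V := A) (C := A) (ofDSub P)
  have hsub := isSubcoalgebra_cf (V := A) (C := A) (S := ofDSub P) (isSubcomod_ofDSub P)
  let S : Submodule (CDual k A) A := toDSub D' (isSubcomod_iff.mp (isSubcomod_of_subcoalgebra hsub))
  have hS'S : ∀ x ∈ P, x ∈ S := fun x hx => counit_mem_cf (mem_ofDSub.2 hx)
  have hcopies : ∀ m : M', cf (C := A) (ofDSub (m : Submodule (CDual k A) A)) ≤
      ofDSub (sSup {n : Submodule (CDual k A) A | IsSimpleModule (CDual k A) n ∧ n ≤ S}) := by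
    intro m
    haveI := m.1.2
    refine (cf_le_sSup_copies (m : Submodule (CDual k A) A)).trans fun x hx => ?_
    refine (sSup_le_sSup ?_ : (_ : Submodule (CDual k A) A) ≤ sSup _) (mem_ofDSub.1 hx)
    rintro n ⟨hn, ⟨en⟩⟩
    refine ⟨hn, fun y hy => ?_⟩
    have h1 : y ∈ cf (V := A) (C := A) (ofDSub n) := counit_mem_cf (mem_ofDSub.2 hy)
    rw [← cf_congr _ _ en] at h1
    exact cf_mono (fun z hz => mem_ofDSub.2 (le_iSup (fun m : M' => (m : Submodule (CDual k A) A)) m
      (mem_ofDSub.1 hz))) h1
  refine ⟨{ S := S, finite := finite_cf _, semisimple := ?_, adjoin_eq := ?_ }⟩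
  · intro z hz
    suffices hle : D' ≤ ofDSub (sSup {n : Submodule (CDual k A) A | IsSimpleModule (CDual k A) n ∧ n ≤ S}) from
      mem_ofDSub.1 (hle hz)
    refine cf_le_iff.2 fun φ v hv => ?_
    have hv' : v ∈ ⨆ m : M', ofDSub (m : Submodule (CDual k A) A) := by
      rw [← ofDSub_iSup]; exact hv
    clear hv
    induction hv' using Submodule.iSup_induction' with
    | mem m x hx => exact hcopies m (mem_cf_of_mem φ hx)
    | zero => simp
    | add x y _ _ hx hy =>
      rw [map_add, map_add]
      exact add_mem hx hy
  let B : Subalgebra k A := Algebra.adjoin k ((S : Set A) ∪ HopfAlgebra.antipode k '' (S : Set A))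
  have hB : FlatSub.IsSubHopf k B := by
    have hantB : B ≤ B.comap (HopfAlgebra.antipodeAlgHom k A) := Algebra.adjoin_le (by
      rintro a (ha | ⟨w, hw, rfl⟩)
      · exact Algebra.subset_adjoin (Or.inr ⟨a, ha, rfl⟩)
      · refine Algebra.subset_adjoin (Or.inl ?_)
        show HopfAlgebra.antipodeAlgHom k A (HopfAlgebra.antipodeAlgHom k A w) ∈ (S : Set A)
        rw [antipodeAlgHom_antipode]
        exact hw)
    refine ⟨fun b hb => ?_, fun b hb => hantB hb⟩
    let R : Subalgebra k (A ⊗[k] A) := (Algebra.TensorProduct.map B.val B.val).range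
    have hR : B ≤ R.comap (Bialgebra.comulAlgHom k A) := Algebra.adjoin_le (by
      have hD : ∀ c ∈ S, ∀ t, comul (R := k) c = t → ∃ z : ↥D' ⊗[k] ↥D', TensorProduct.map D'.subtype D'.subtype z = t :=
        fun c hc t ht => ht ▸ hsub c hc
      rintro a (ha | ⟨w, hw, rfl⟩)
      · obtain ⟨z, hz⟩ := hD a ha _ rfl
        show comul (R := k) a ∈ R
        rw [← hz]
        clear hz
        induction z using TensorProduct.induction_on with
        | zero => simp [R.zero_mem]
        | add x y hx hy => rw [map_add]; exact R.add_mem hx hy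
        | tmul x y => exact ⟨⟨x, Algebra.subset_adjoin (Or.inl x.2)⟩ ⊗ₜ ⟨y, Algebra.subset_adjoin (Or.inl y.2)⟩, rfl⟩
      · show comul (R := k) (HopfAlgebra.antipode k w) ∈ R
        rw [comul_antipode]
        obtain ⟨z, hz⟩ := hD w hw _ rfl
        rw [← hz]
        clear hz
        induction z using TensorProduct.induction_on with
        | zero => simp [R.zero_mem]
        | add x y hx hy => simp only [map_add]; exact R.add_mem hx hy
        | tmul x y =>
          exact ⟨⟨_, Algebra.subset_adjoin (Or.inr ⟨y, y.2, rfl⟩)⟩ ⊗ₜ ⟨_, Algebra.subset_adjoin (Or.inr ⟨x, x.2, rfl⟩)⟩, rfl⟩)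
    obtain ⟨z, hz⟩ := hR hb
    refine ⟨z, ?_⟩
    rw [show comul (R := k) b = _ from hz.symm]
    rfl
  refine eq_top_iff.2 fun a _ => UnipFilt.coinv_mem hB (RingHom.ker (Bialgebra.counitAlgHom k A)) ?_ ?_
  · refine le_trans hTspan (Ideal.span_mono ?_)
    rintro _ ⟨c, hc, rfl⟩
    exact ⟨sub_mem (Algebra.subset_adjoin (Or.inl (hS'S c (hTP c hc)))) (B.algebraMap_mem _), counit_sub⟩
  · refine (mem_range_lTensor_iff _ _).2 fun φ => ?_
    show Bialgebra.counitAlgHom k A (cL φ _) = 0
    rw [map_sub, map_sub, cL_tmul, map_smul, map_one, smul_eq_mul, _root_.mul_one, sub_eq_zero]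
    show counit (R := k) (cL φ (comul (R := k) a)) = φ a
    rw [cR_cL]
    congr 1
    show TensorProduct.rid k A ((counit (R := k) (A := A)).lTensor A (comul (R := k) a)) = a
    rw [Coalgebra.lTensor_counit_comul]; simp

end Groth.Agent.RedLR
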