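import Groth.Agent.RedLR.Replica
import Groth.Agent.Comod.Reductive
import Mathlib.LinearAlgebra.BilinearForm.Orthogonal
import Mathlib.Algebra.Lie.InvariantForm

/-!
# Casimir elements: a connected group with a faithful semisimple representation is linearly reductive
-/

set_option autoImplicit false
set_option linter.unusedSectionVars false
set_option linter.style.haveILetI false
set_option backward.isDefEq.respectTransparency false
set_option synthInstance.maxHeartbeats 400000
set_option maxHeartbeats 1000000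

universe u

open TensorProduct Coalgebra
open Groth.Agent.Comod Groth.Agent.UnipFilt Groth.Agent.HopfCartier
open scoped Groth.Agent.Comod

noncomputable section

namespace Groth.Agent.RedLR

attribute [local instance 100] LieRing.ofAssociativeRing

variable {k : Type u} [Field k] {A : Type u} [CommRing A] [HopfAlgebra k A] [Algebra.FiniteType k A]

local notation "L" => (gLie k A)

/-- The comodule carried by a submodule over the dual algebra. -/
@[reducible] def subCom {V : Type u} [AddCommGroup V] [Module k V] [HopfRep.Comod k A V]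
    (m : Submodule (CDual k A) V) : HopfRep.Comod k A ↥(ofDSub m) :=
  ComodSub.Comod.restr (inferInstance : HopfRep.Comod k A V) (ofDSub m) (isSubcomod_ofDSub m)

theorem coe_dact_subCom {V : Type u} [AddCommGroup V] [Module k V] [HopfRep.Comod k A V]
    (m : Submodule (CDual k A) V) (f : CDual k A) (w : ↥(ofDSub m)) :
    letI := subCom m
    ((dact k A ↥(ofDSub m) f w : ↥(ofDSub m)) : V) = dact k A V f w :=
  dact_restr _ (isSubcomod_ofDSub m) f w

theorem coe_lie_subCom {V : Type u} [AddCommGroup V] [Module k V] [HopfRep.Comod k A V]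
    (m : Submodule (CDual k A) V) (X : L) (w : ↥(ofDSub m)) :
    letI := subCom m
    ((⁅X, w⁆ : ↥(ofDSub m)) : V) = ⁅X, (w : V)⁆ :=
  coe_dact_subCom m (X : CDual k A) w

theorem isSimpleComod_subCom {V : Type u} [AddCommGroup V] [Module k V] [HopfRep.Comod k A V]
    (m : Submodule (CDual k A) V) (hm : IsSimpleModule (CDual k A) m) :
    @HopfRep.IsSimpleComod k A _ _ _ _ ↥(ofDSub m) _ _ (subCom m) := by
  letI := subCom m
  haveI := IsSimpleModule.nontrivial (CDual k A) m
  refine ⟨inferInstanceAs (Nontrivial m), fun W hW => ?_⟩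
  let W' : Submodule (CDual k A) V := toDSub (W.map (ofDSub m).subtype) (by
    rintro f _ ⟨w, hw, rfl⟩
    exact ⟨_, isSubcomod_iff.mp hW f w hw, coe_dact_subCom m f w⟩)
  have hle : W' ≤ m := by
    rintro _ ⟨w, -, rfl⟩
    exact w.2
  rcases (isSimpleModule_iff_isAtom.1 hm).le_iff.1 hle with h | h
  · refine Or.inl ((Submodule.eq_bot_iff _).2 fun w hw => Subtype.ext ?_)
    have h1 : (w : V) ∈ W' := ⟨w, hw, rfl⟩
    rw [h] at h1
    exact (Submodule.mem_bot (CDual k A)).1 h1
  · refine Or.inr (eq_top_iff.2 fun w _ => ?_)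
    have h1 : (w : V) ∈ W' := h.symm ▸ w.2
    obtain ⟨w', hw', he⟩ := h1
    obtain rfl : w' = w := Subtype.ext he
    exact hw'

section

variable [CharZero k] {V : Type u} [AddCommGroup V] [Module k V] [HopfRep.Comod k A V] [Module.Finite k V]

theorem traceForm_apply (X Y : L) :
    LieModule.traceForm k L V X Y =
      LinearMap.trace k V (LieModule.toEnd k L V X * LieModule.toEnd k L V Y) := rfl

/-- The derived algebra of an ideal with vanishing trace form acts nilpotently. -/
theorem isNilpotent_of_trace (I : LieIdeal k L)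
    (h : ∀ X ∈ I, ∀ Y ∈ I, LieModule.traceForm k L V X Y = 0) :
    ∀ X ∈ ⁅I, I⁆, IsNilpotent (LieModule.toEnd k L V X) := by
  intro X hX
  have h0 : LieModule.traceForm k I V = 0 := by
    ext ⟨x, hx⟩ ⟨y, hy⟩
    exact h x hx y hy
  haveI := LieModule.isNilpotent_derivedSeries_of_traceForm_eq_zero h0
  have hXI : X ∈ I := LieSubmodule.lie_le_left I I hX
  have hmem : (⟨X, hXI⟩ : I) ∈ LieAlgebra.derivedSeries k I 1 := by
    rw [LieIdeal.derivedSeries_eq_derivedSeriesOfIdeal_comap, LieIdeal.mem_comap,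
      LieAlgebra.derivedSeriesOfIdeal_succ, LieAlgebra.derivedSeriesOfIdeal_zero]
    exact hX
  exact (LieModule.isNilpotent_iff_forall (R := k)).1
    (inferInstance : LieModule.IsNilpotent (LieAlgebra.derivedSeries k I 1) V) ⟨⟨X, hXI⟩, hmem⟩

end

variable [CharZero k] [IsDomain A] [IsAlgClosed k] (G : Gen k A)

/-- The trace form of the generating representation. -/
def Gen.form : LinearMap.BilinForm k L :=
  letI := subCom G.S
  LieModule.traceForm k L ↥(ofDSub G.S)

theorem Gen.form_isSymm : G.form.IsSymm :=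
  letI := subCom G.S
  ⟨LieModule.traceForm_comm k L ↥(ofDSub G.S)⟩

theorem Gen.form_inv : G.form.lieInvariant L :=
  letI := subCom G.S
  LieModule.traceForm_lieInvariant k L ↥(ofDSub G.S)

theorem Gen.isScalar_of_ideal (I : LieIdeal k L) (h : ∀ X ∈ I, ∀ Y ∈ I, G.form X Y = 0)
    (X : L) (hX : X ∈ I) : G.IsScalar X := by
  intro m hm hmS
  letI := subCom G.S
  haveI := G.finite
  have hnil := isNilpotent_of_trace (V := ↥(ofDSub G.S)) I h
  letI := subCom m
  haveI : Module.Finite k ↥(ofDSub m) :=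
    Submodule.finiteDimensional_of_le (show ofDSub m ≤ ofDSub G.S from hmS)
  have hD : ∀ Y ∈ ⁅I, I⁆, IsNilpotent (LieModule.toEnd k L ↥(ofDSub m) Y) := by
    intro Y hY
    obtain ⟨n, hn⟩ := hnil Y hY
    refine ⟨n, LinearMap.ext fun w => Subtype.ext ?_⟩
    rw [toEnd_eq, ← map_pow] at hn ⊢
    have h1 := congrArg Subtype.val (LinearMap.congr_fun hn ⟨(w : A), hmS w.2⟩)
    rw [coe_dact_subCom] at h1
    rw [coe_dact_subCom]
    exact h1
  obtain ⟨c, hc⟩ := exists_scalar_of_ideal (isSimpleComod_subCom m hm) I hD X hX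
  exact ⟨c, fun w hw => (coe_lie_subCom m X ⟨w, hw⟩).symm.trans (congrArg Subtype.val (hc ⟨w, hw⟩))⟩

/-- An element acting by scalars and orthogonal to its replicas is zero. -/
theorem Gen.eq_zero_of_split {X : L} (hX : G.IsScalar X)
    (htr : ∀ Y : L, (∀ (W : Type u) [AddCommGroup W] [Module k W] [HopfRep.Comod k A W] (w : W),
      ⁅X, w⁆ = 0 → ⁅Y, w⁆ = 0) → G.form X Y = 0) : X = 0 := by
  letI := subCom G.S
  haveI := G.finite
  refine G.eq_zero fun w hw => ?_
  have h := (G.split hX).lie_eq_zero_of_trace (V := ↥(ofDSub G.S)) htr ⟨w, hw⟩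
  rw [← coe_lie_subCom G.S X ⟨w, hw⟩, h]
  rfl

theorem Gen.form_nondegenerate : G.form.Nondegenerate := by
  refine (LinearMap.IsRefl.nondegenerate_iff_separatingLeft G.form_isSymm.isRefl).2 ?_
  intro X hX
  let R : LieIdeal k L := LieAlgebra.InvariantForm.orthogonal G.form G.form_inv ⊤
  have hR : X ∈ R := by
    rw [LieAlgebra.InvariantForm.mem_orthogonal]
    exact fun Y _ => (G.form_isSymm.eq Y X).trans (hX Y)
  refine G.eq_zero_of_split (G.isScalar_of_ideal R (fun Y hY Z _ => ?_) X hR) fun Y _ => hX Y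
  rw [LieAlgebra.InvariantForm.mem_orthogonal] at hY
  exact (G.form_isSymm.eq Y Z).trans (hY Z trivial)

section Casimir

variable {V : Type u} [AddCommGroup V] [Module k V] [HopfRep.Comod k A V]

include G in
/-- A vector moved into a simple piece by the Lie algebra differs from a killed one by an element of it. -/
theorem exists_killed_sub (m : Submodule (CDual k A) V) (hm : IsSimpleModule (CDual k A) m)
    [Module.Finite k ↥(ofDSub m)] (v : V) (hv : ∀ X : L, ⁅X, v⁆ ∈ m) :
    ∃ w ∈ m, ∀ X : L, ⁅X, v - w⁆ = 0 := by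
  classical
  letI := subCom m
  have hs := isSimpleComod_subCom m hm
  have hB := G.form_nondegenerate
  by_cases hzero : ∀ X : L, ∀ w : ↥(ofDSub m), ⁅X, w⁆ = 0
  · -- trivial piece
    refine ⟨0, zero_mem _, fun X => ?_⟩
    rw [sub_zero]
    have hkill : ∀ (Y : L), ∀ u ∈ m, ⁅Y, u⁆ = 0 := fun Y u hu => by
      rw [← coe_lie_subCom m Y ⟨u, hu⟩, hzero]; rfl
    refine (Module.forall_dual_apply_eq_zero_iff k _).1 fun ψ => ?_
    let f : L →ₗ[k] k :=
      { toFun := fun Y => ψ ⁅Y, v⁆
        map_add' := fun Y Z => by rw [add_lie, map_add]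
        map_smul' := fun c Y => by rw [smul_lie, map_smul]; rfl }
    obtain ⟨X₀, hX₀⟩ := (G.form.toDual hB).surjective f
    have hX₀' : ∀ Y, G.form X₀ Y = ψ ⁅Y, v⁆ := fun Y => by
      rw [← LinearMap.BilinForm.toDual_def hB, hX₀]; rfl
    have hcent : ∀ Y : L, ⁅X₀, Y⁆ = 0 := by
      intro Y
      refine hB.1 _ fun Z => ?_
      have h1 : G.form ⁅X₀, Y⁆ Z = G.form X₀ ⁅Y, Z⁆ := by
        letI := subCom G.S
        exact LieModule.traceForm_apply_lie_apply k L ↥(ofDSub G.S) X₀ Y Z
      rw [h1, hX₀', lie_lie, hkill Y _ (hv Z), hkill Z _ (hv Y), sub_zero, map_zero]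
    have hsc : G.IsScalar X₀ := by
      intro m' hm' hm'S
      letI := subCom m'
      haveI := G.finite
      haveI : Module.Finite k ↥(ofDSub m') :=
        Submodule.finiteDimensional_of_le (show ofDSub m' ≤ ofDSub G.S from hm'S)
      obtain ⟨c, hc⟩ := exists_scalar_of_commute (isSimpleComod_subCom m' hm')
        (LieModule.toEnd k L ↥(ofDSub m') X₀) (fun Y u => by
          show ⁅X₀, ⁅Y, u⁆⁆ = ⁅Y, ⁅X₀, u⁆⁆
          rw [leibniz_lie, hcent Y, zero_lie, zero_add])
      exact ⟨c, fun w hw => by rw [← coe_lie_subCom m' X₀ ⟨w, hw⟩]; exact congrArg Subtype.val (hc ⟨w, hw⟩)⟩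
    have h0 : X₀ = 0 := G.eq_zero_of_split hsc fun Y hY => by
      rw [hX₀', hY V v ((G.split hsc).lie_eq_zero (hkill X₀ _ (hv X₀))), map_zero]
    rw [← hX₀', h0, map_zero, LinearMap.zero_apply]
  -- Casimir element of the complement of the kernel
  let N : LieIdeal k L := LieModule.ker k L ↥(ofDSub m)
  let M : LieIdeal k L := LieAlgebra.InvariantForm.orthogonal G.form G.form_inv N
  have hNM : ∀ X : L, X ∈ N → X ∈ M → X = 0 := by
    intro X hXN hXM
    have hN : ∀ w : ↥(ofDSub m), ⁅X, w⁆ = 0 := (LieModule.mem_ker k L ↥(ofDSub m) _).1 hXN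
    rw [LieAlgebra.InvariantForm.mem_orthogonal] at hXM
    refine G.eq_zero_of_split (G.isScalar_of_ideal (N ⊓ M) (fun Y hY Z hZ => ?_) X ⟨hXN, ?_⟩) fun Y hY => ?_
    · have hZ2 := hZ.2
      simp only [SetLike.mem_coe] at hZ2
      exact (LieAlgebra.InvariantForm.mem_orthogonal _ _ _ _).1 hZ2 Y hY.1
    · exact (LieAlgebra.InvariantForm.mem_orthogonal _ _ _ _).2 hXM
    · exact (G.form_isSymm.eq X Y).trans
        (hXM Y ((LieModule.mem_ker k L ↥(ofDSub m) _).2 fun w => hY ↥(ofDSub m) w (hN w)))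
  have hcompl : IsCompl N.toSubmodule (G.form.orthogonal N.toSubmodule) :=
    (LinearMap.BilinForm.isCompl_orthogonal_iff_disjoint G.form_isSymm.isRefl).2 <|
      Submodule.disjoint_def.2 fun X h1 h2 => hNM X h1 h2
  let B₁ : LinearMap.BilinForm k L := LieModule.traceForm k L ↥(ofDSub m)
  have hB₁N : ∀ X : L, ∀ Y ∈ N, B₁ X Y = 0 := by
    intro X Y hY
    show LinearMap.trace k _ (LieModule.toEnd k L _ X * LieModule.toEnd k L _ Y) = 0
    have : LieModule.toEnd k L ↥(ofDSub m) Y = 0 := LinearMap.ext ((LieModule.mem_ker k L ↥(ofDSub m) _).1 hY)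
    rw [this, mul_zero, map_zero]
  have hB₁symm : B₁.IsSymm := ⟨LieModule.traceForm_comm k L _⟩
  let B' : LinearMap.BilinForm k M.toSubmodule := B₁.restrict M.toSubmodule
  have hB' : B'.Nondegenerate := by
    refine (LinearMap.IsRefl.nondegenerate_iff_separatingLeft (B := B') (fun a b h => (hB₁symm.eq b.1 a.1).trans h)).2 ?_
    rintro ⟨X, hXM⟩ hX
    have hall : ∀ Y : L, B₁ X Y = 0 := by
      intro Y
      obtain ⟨Yn, hYn, Ym, hYm, rfl⟩ := Submodule.mem_sup.1
        (show Y ∈ N.toSubmodule ⊔ G.form.orthogonal N.toSubmodule by rw [hcompl.sup_eq_top]; trivial)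
      rw [map_add, hB₁N X Yn hYn, zero_add]
      exact hX ⟨Ym, hYm⟩
    let R : LieIdeal k L := LieAlgebra.InvariantForm.orthogonal B₁
      (LieModule.traceForm_lieInvariant k L _) ⊤
    have hXR : X ∈ R := (LieAlgebra.InvariantForm.mem_orthogonal _ _ _ _).2 fun Y _ =>
      (hB₁symm.eq Y X).trans (hall Y)
    obtain ⟨c, hc⟩ := exists_scalar_of_ideal hs R (isNilpotent_of_trace R fun Y hY Z _ =>
      (hB₁symm.eq Y Z).trans ((LieAlgebra.InvariantForm.mem_orthogonal _ _ _ _).1 hY Z trivial)) X hXR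
    have hT : LieModule.toEnd k L ↥(ofDSub m) X = c • 1 := LinearMap.ext hc
    have h2 : B₁ X X = c * c * (Module.finrank k ↥(ofDSub m) : k) := by
      show LinearMap.trace k _ (LieModule.toEnd k L _ X * LieModule.toEnd k L _ X) = _
      rw [hT, smul_mul_smul_comm, mul_one, map_smul, LinearMap.trace_one, smul_eq_mul]
    rw [hall X] at h2
    haveI := hs.1
    have hc0 : c = 0 := by
      rcases mul_eq_zero.1 h2.symm with h | h
      · exact mul_self_eq_zero.1 h
      · exact absurd (Nat.cast_eq_zero.1 h) Module.finrank_pos.ne'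
    exact Subtype.ext (hNM X ((LieModule.mem_ker k L ↥(ofDSub m) _).2 fun w => by rw [hc w, hc0, zero_smul]) hXM)
  haveI : Module.Finite k M.toSubmodule := inferInstance
  let b := Module.finBasis k M.toSubmodule
  let b' := B'.dualBasis hB' b
  let C : ∀ (E : Type u) [AddCommGroup E] [Module k E] [HopfRep.Comod k A E], Module.End k E :=
    fun E _ _ _ => ∑ i, LieModule.toEnd k L E (b i : L) * LieModule.toEnd k L E (b' i : L)
  have hexpand : ∀ x : M.toSubmodule,
      (∑ j, B' (b' j) x • b j) = x ∧ (∑ j, B' x (b j) • b' j) = x := by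
    intro x
    constructor
    · have h : ∀ j, B' (b' j) x = b.repr x j := fun j => by
        conv_lhs => rw [← b.sum_repr x]
        simp only [b', map_sum, map_smul, LinearMap.BilinForm.apply_dualBasis_left, smul_eq_mul]
        rw [Finset.sum_eq_single j (fun i _ hi => by rw [if_neg hi, mul_zero])
          (fun h => absurd (Finset.mem_univ j) h), if_pos rfl, mul_one]
      simp only [h, b.sum_repr]
    · conv_rhs => rw [← b'.sum_repr x]
      exact Finset.sum_congr rfl fun j _ => by rw [LinearMap.BilinForm.dualBasis_repr_apply]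
  have hcomm : ∀ (E : Type u) [AddCommGroup E] [Module k E] [HopfRep.Comod k A E] (Z : L) (e : E),
      C E ⁅Z, e⁆ = ⁅Z, C E e⁆ := by
    intro E _ _ _ Z e
    let zM : M.toSubmodule → M.toSubmodule := fun x => ⟨⁅Z, (x : L)⁆, M.lie_mem x.2⟩
    let α : Fin _ → Fin _ → k := fun i j => B' (b' j) (zM (b i))
    have hβ : ∀ i j, B' (zM (b' i)) (b j) = - α j i := fun i j => by
      show B₁ ⁅Z, (b' i : L)⁆ (b j : L) = - B₁ (b' i : L) ⁅Z, (b j : L)⁆
      exact LieModule.traceForm_apply_lie_apply' k L _ Z (b' i : L) (b j : L)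
    have h1 : ∀ i, ⁅Z, (b i : L)⁆ = ∑ j, α i j • (b j : L) := fun i => by
      have h := congrArg Subtype.val (hexpand (zM (b i))).1
      rw [Submodule.coe_sum] at h
      exact h.symm
    have h2 : ∀ i, ⁅Z, (b' i : L)⁆ = ∑ j, (- α j i) • (b' j : L) := fun i => by
      have h := congrArg Subtype.val (hexpand (zM (b' i))).2
      rw [Submodule.coe_sum] at h
      simp only [hβ] at h
      exact h.symm
    simp only [C, LinearMap.sum_apply, Module.End.mul_apply, LieModule.toEnd_apply_apply, lie_sum]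
    have hterm : ∀ i, ⁅Z, ⁅(b i : L), ⁅(b' i : L), e⁆⁆⁆ =
        ⁅(b i : L), ⁅(b' i : L), ⁅Z, e⁆⁆⁆ + (⁅⁅Z, (b i : L)⁆, ⁅(b' i : L), e⁆⁆ +
          ⁅(b i : L), ⁅⁅Z, (b' i : L)⁆, e⁆⁆) := fun i => by
      rw [leibniz_lie Z (b i : L), leibniz_lie Z (b' i : L), lie_add]
      abel
    rw [Finset.sum_congr rfl fun i _ => hterm i, Finset.sum_add_distrib, left_eq_add, Finset.sum_add_distrib]
    simp only [h1, h2, sum_lie, smul_lie, lie_sum, lie_smul]
    rw [Finset.sum_comm (f := fun i j => (- α j i) • ⁅(b i : L), ⁅(b' j : L), e⁆⁆), ← Finset.sum_add_distrib]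
    refine Finset.sum_eq_zero fun i _ => ?_
    rw [← Finset.sum_add_distrib]
    refine Finset.sum_eq_zero fun j _ => ?_
    rw [neg_smul, add_neg_cancel]
  obtain ⟨c, hc⟩ := exists_scalar_of_commute hs (C ↥(ofDSub m)) fun Z u => hcomm _ Z u
  have htr : LinearMap.trace k ↥(ofDSub m) (C ↥(ofDSub m)) = (Module.finrank k M.toSubmodule : k) := by
    simp only [C, map_sum]
    have h : ∀ i, LinearMap.trace k ↥(ofDSub m) (LieModule.toEnd k L ↥(ofDSub m) (b i : L) *
        LieModule.toEnd k L ↥(ofDSub m) (b' i : L)) = 1 := fun i => by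
      show B' (b i) (b' i) = 1
      rw [show B' (b i) (b' i) = B' (b' i) (b i) from hB₁symm.eq _ _,
        LinearMap.BilinForm.apply_dualBasis_left, if_pos rfl]
    simp only [h, Finset.sum_const, Finset.card_univ, Fintype.card_fin, nsmul_one]
  have hc0 : c ≠ 0 := by
    rintro rfl
    have hC : C ↥(ofDSub m) = 0 := LinearMap.ext fun u => by simp [hc]
    rw [hC, map_zero] at htr
    have hM : M.toSubmodule = ⊥ := Submodule.finrank_eq_zero.1 (Nat.cast_eq_zero.1 htr.symm)
    apply hzero
    intro X w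
    have hXN : X ∈ N.toSubmodule := by
      have h := hcompl.sup_eq_top
      rw [show G.form.orthogonal N.toSubmodule = M.toSubmodule from rfl, hM, sup_bot_eq] at h
      rw [h]; trivial
    exact (LieModule.mem_ker k L ↥(ofDSub m) _).1 hXN w
  have hCm : ∀ u (hu : u ∈ m), C V u = c • u := by
    intro u hu
    have h := congrArg Subtype.val (hc ⟨u, hu⟩)
    simp only [C, LinearMap.sum_apply, Module.End.mul_apply, LieModule.toEnd_apply_apply,
      Submodule.coe_sum, coe_lie_subCom] at h ⊢
    exact h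
  have hCv : C V v ∈ m := by
    simp only [C, LinearMap.sum_apply, Module.End.mul_apply, LieModule.toEnd_apply_apply]
    exact sum_mem fun i _ => m.smul_mem _ (hv _)
  have hw : c⁻¹ • C V v ∈ m := (ofDSub m).smul_mem _ (show C V v ∈ ofDSub m from hCv)
  refine ⟨_, hw, fun X => ?_⟩
  have h0 : C V (v - c⁻¹ • C V v) = 0 := by
    rw [map_sub, map_smul, hCm _ hCv, smul_smul, inv_mul_cancel₀ hc0, one_smul, sub_self]
  have hmem : ⁅X, v - c⁻¹ • C V v⁆ ∈ m := by
    rw [lie_sub]; exact sub_mem (hv X) (m.smul_mem (X : CDual k A) hw)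
  have h1 := hCm _ hmem
  rw [hcomm, h0, lie_zero] at h1
  exact (smul_eq_zero.1 h1.symm).resolve_left hc0

end Casimir

include G in
/-- A representation with an invariant linear form not killing everything has a killed vector outside its kernel. -/
theorem exists_killed : ∀ (n : ℕ) (V : Type u) [AddCommGroup V] [Module k V] [HopfRep.Comod k A V]
    [Module.Finite k V], Module.finrank k V ≤ n → ∀ (π : V →ₗ[k] k) (v : V), π v ≠ 0 →
    HopfRep.IsSubcomod (k := k) (A := A) (LinearMap.ker π) → (∀ (X : L) (u : V), π ⁅X, u⁆ = 0) →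
    ∃ u : V, π u ≠ 0 ∧ ∀ X : L, ⁅X, u⁆ = 0 := by
  intro n
  induction n with
  | zero =>
    intro V _ _ _ _ hn π v hv _ _
    haveI : Subsingleton V := Module.finrank_zero_iff.1 (Nat.le_zero.1 hn)
    exact absurd (by rw [Subsingleton.elim v 0, map_zero]) hv
  | succ n ih =>
    intro V _ _ _ _ hn π v hv hker hπ
    by_cases hbot : LinearMap.ker π = ⊥
    · exact ⟨v, hv, fun X => (Submodule.mem_bot k).1 (hbot ▸ LinearMap.mem_ker.2 (hπ X v))⟩
    let K : Submodule (CDual k A) V := toDSub (LinearMap.ker π) (isSubcomod_iff.mp hker)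
    have hK : K ≠ ⊥ := fun h => hbot (by rw [show LinearMap.ker π = ofDSub K from rfl, h]; rfl)
    haveI : IsArtinian (CDual k A) V := isArtinian_of_tower k inferInstance
    obtain ⟨m, hm, hmK⟩ := (eq_bot_or_exists_atom_le K).resolve_left hK
    haveI : IsSimpleModule (CDual k A) m := isSimpleModule_iff_isAtom.2 hm
    have hne : ofDSub m ≠ ⊥ := fun h => hm.1 (ofDSub_eq_bot.1 h)
    letI := ComodSub.Comod.quot (inferInstance : HopfRep.Comod k A V) (ofDSub m) (isSubcomod_ofDSub m)
    have hmk : ∀ (f : CDual k A) (u : V), dact k A (V ⧸ ofDSub m) f ((ofDSub m).mkQ u) =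
        (ofDSub m).mkQ (dact k A V f u) := fun f u =>
      (isComodHom_iff.mp (ComodSub.isComodHom_mkQ (inferInstance : HopfRep.Comod k A V) (ofDSub m)
        (isSubcomod_ofDSub m)) f u).symm
    let π' : (V ⧸ ofDSub m) →ₗ[k] k := (ofDSub m).liftQ π fun u hu => hmK hu
    have hlt : Module.finrank k (V ⧸ ofDSub m) ≤ n := by
      have h1 := (ofDSub m).finrank_quotient_add_finrank
      have h2 : 0 < Module.finrank k ↥(ofDSub m) := Nat.pos_of_ne_zero fun h => hne (Submodule.finrank_eq_zero.1 h)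
      omega
    obtain ⟨u', hu', hkill⟩ := ih (V ⧸ ofDSub m) hlt π' ((ofDSub m).mkQ v) hv
      (isSubcomod_iff.mpr fun f q hq => by
        obtain ⟨u, rfl⟩ := (ofDSub m).mkQ_surjective q
        rw [hmk]
        exact LinearMap.mem_ker.2 (show π (dact k A V f u) = 0 from
          isSubcomod_iff.mp hker f u (show u ∈ LinearMap.ker π from hq)))
      (fun X q => by
        obtain ⟨u, rfl⟩ := (ofDSub m).mkQ_surjective q
        rw [lie_apply, hmk]
        exact hπ X u)
    obtain ⟨u, rfl⟩ := (ofDSub m).mkQ_surjective u'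
    have hin : ∀ X : L, ⁅X, u⁆ ∈ m := fun X => by
      have h := hkill X
      rw [lie_apply, hmk] at h
      exact (Submodule.Quotient.mk_eq_zero _).1 h
    obtain ⟨w, hw, hkw⟩ := exists_killed_sub G m inferInstance u hin
    refine ⟨u - w, ?_, hkw⟩
    rw [map_sub, LinearMap.mem_ker.1 (hmK hw), sub_zero]
    exact hu'

include G in
/-- A connected group in characteristic zero with a faithful semisimple representation is linearly reductive. -/
theorem isLinearlyReductive : HopfRep.IsLinearlyReductive k A := by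
  refine isLinearlyReductive_of_localIntegral k A (hasLocalIntegral_of_fixedPts fun V _ _ _ _ π hsurj hπ => ?_)
  have hπ' : ∀ (f : CDual k A) (v : V), π (dact k A V f v) = π v * f.ofConv 1 := by
    intro f v
    rw [dact_apply, ← cR_rTensor]
    have h := LinearMap.congr_fun hπ v
    simp only [LinearMap.comp_apply, LinearMap.flip_apply, TensorProduct.mk_apply] at h
    rw [h, cR_tmul, smul_eq_mul, mul_comm]
  obtain ⟨v, hv⟩ := hsurj 1
  obtain ⟨u, hu, hkill⟩ := exists_killed G _ V le_rfl π v (by rw [hv]; exact one_ne_zero)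
    (isSubcomod_iff.mpr fun f w hw => by rw [LinearMap.mem_ker, hπ', LinearMap.mem_ker.1 hw, zero_mul])
    (fun X w => by
      rw [lie_apply, hπ', show (X : CDual k A).ofConv 1 = 0 from IsEpsDer.one X.2, mul_zero])
  exact ⟨u, mem_fixedPts_of_lie hkill, hu⟩

end Groth.Agent.RedLR
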