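import Groth.Agent.UnipFilt.LieStable
import Groth.Agent.HopfDomain.Basic
import Mathlib.Algebra.Lie.OfAssociative
import Mathlib.Algebra.Lie.LieTheorem
import Mathlib.Algebra.Lie.CartanCriterion
import Mathlib.Algebra.Lie.Engel

/-!
# The Lie algebra of an affine group acting on its representations

The `ε`-derivations inside the dual algebra form a Lie algebra acting on every comodule; for a connected
group in characteristic zero a subspace stable under it is a subcomodule.
-/

set_option autoImplicit false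
set_option linter.unusedSectionVars false
set_option synthInstance.maxHeartbeats 400000
set_option maxHeartbeats 1000000
set_option backward.isDefEq.respectTransparency false

universe u w

open TensorProduct Coalgebra
open Groth.Agent.Comod Groth.Agent.UnipFilt Groth.Agent.HopfCartier
open scoped Groth.Agent.Comod

noncomputable section

namespace Groth.Agent.RedLR

attribute [local instance 100] LieRing.ofAssociativeRing

variable {k : Type u} [Field k] {A : Type u} [CommRing A] [HopfAlgebra k A]

theorem dual_mul_apply (f g : CDual k A) (x : A) :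
    (f * g).ofConv x = f.ofConv (invOp g.ofConv x) := by
  rw [LinearMap.convMul_def]
  show LinearMap.mul' k k (TensorProduct.map f.ofConv g.ofConv (comul (R := k) x)) =
    f.ofConv (TensorProduct.rid k A (g.ofConv.lTensor A (comul (R := k) x)))
  generalize comul (R := k) x = t
  induction t using TensorProduct.induction_on with
  | zero => simp
  | tmul a b => simp [mul_comm]
  | add a b ha hb => simp only [map_add, ha, hb]

/-- The Lie algebra of `ε`-derivations. -/
def gLie (k A : Type u) [Field k] [CommRing A] [HopfAlgebra k A] : LieSubalgebra k (CDual k A) where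
  carrier := {f | IsEpsDer f.ofConv}
  add_mem' {f g} hf hg a b := by
    simp only [WithConv.ofConv_add, LinearMap.add_apply, hf a b, hg a b]; ring
  zero_mem' a b := by simp
  smul_mem' c f hf a b := by
    simp only [WithConv.ofConv_smul, LinearMap.smul_apply, smul_eq_mul, hf a b]; ring
  lie_mem' {f g} hf hg a b := by
    have key : ∀ (f g : CDual k A), IsEpsDer f.ofConv → IsEpsDer g.ofConv →
        (f * g).ofConv (a * b) = counit (R := k) a * (f * g).ofConv b + counit (R := k) b * (f * g).ofConv a +
          (f.ofConv a * g.ofConv b + f.ofConv b * g.ofConv a) := fun f g hf hg => by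
      rw [dual_mul_apply, invOp_mul _ hg, map_add, hf, hf, counit_invOp, counit_invOp, dual_mul_apply,
        dual_mul_apply]
      ring
    rw [LieRing.of_associative_ring_bracket]
    simp only [WithConv.ofConv_sub, LinearMap.sub_apply, key f g hf hg, key g f hg hf]
    ring

theorem mem_gLie {f : CDual k A} : f ∈ gLie k A ↔ IsEpsDer f.ofConv := Iff.rfl

variable (k A) in
/-- The infinitesimal action on a comodule. -/
def lieAct (V : Type w) [AddCommGroup V] [Module k V] [HopfRep.Comod k A V] :
    gLie k A →ₗ⁅k⁆ Module.End k V :=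
  (dact k A V).toLieHom.comp (gLie k A).incl

theorem apply_sq_zero {d : A →ₗ[k] k} (hd : IsEpsDer d) {b : A}
    (hb : b ∈ RingHom.ker (Bialgebra.counitAlgHom k A) ^ 2) : d b = 0 := by
  rw [pow_two] at hb
  refine Submodule.mul_induction_on hb (fun p hp q hq => ?_) (fun p q hp hq => by rw [map_add, hp, hq, add_zero])
  rw [hd, show counit (R := k) p = 0 from hp, show counit (R := k) q = 0 from hq, zero_mul, zero_mul, add_zero]

instance finite_gLie [Algebra.FiniteType k A] : Module.Finite k (gLie k A) := by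
  obtain ⟨r, d, x, -, hx, hco⟩ := exists_coords (k := k) (A := A)
  refine Module.Finite.of_injective
    (LinearMap.pi fun j => (LinearMap.applyₗ (x j)) ∘ₗ
      (WithConv.linearEquiv k (A →ₗ[k] k)).toLinearMap ∘ₗ (gLie k A).toSubmodule.subtype) ?_
  rw [← LinearMap.ker_eq_bot, LinearMap.ker_eq_bot']
  rintro ⟨f, hf⟩ h
  refine Subtype.ext (WithConv.ofConv_injective (LinearMap.ext fun a => ?_))
  have hb : a - algebraMap k A (counit (R := k) a) ∈ RingHom.ker (Bialgebra.counitAlgHom k A) := by
    simp [RingHom.mem_ker]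
  have h1 := apply_sq_zero hf (hco _ hb)
  have h2 : ∀ j, f.ofConv (x j) = 0 := fun j => congrFun h j
  simpa [map_sub, map_sum, h2, Algebra.algebraMap_eq_smul_one, hf.one] using h1

section Modules

variable {V : Type w} [AddCommGroup V] [Module k V] [HopfRep.Comod k A V]

local notation "L" => (gLie k A)

instance instLieRingModule : LieRingModule L V :=
  LieRingModule.compLieHom V (lieAct k A V)

instance instLieModule : LieModule k L V :=
  LieModule.compLieHom V (lieAct k A V)

theorem lie_apply (X : L) (v : V) : ⁅X, v⁆ = dact k A V (X : CDual k A) v := rfl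

theorem toEnd_eq (X : L) : LieModule.toEnd k L V X = dact k A V (X : CDual k A) := rfl

/-- A subcomodule is a Lie submodule. -/
def lieSub {W : Submodule k V} (hW : HopfRep.IsSubcomod (k := k) (A := A) W) : LieSubmodule k L V where
  toSubmodule := W
  lie_mem {X v} hv := isSubcomod_iff.mp hW (X : CDual k A) v hv

theorem dact_restr (W : Submodule k V) (hW : HopfRep.IsSubcomod (k := k) (A := A) W) (f : CDual k A) (w : W) :
    letI := ComodSub.Comod.restr (inferInstance : HopfRep.Comod k A V) W hW
    ((dact k A W f w : W) : V) = dact k A V f w := by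
  letI := ComodSub.Comod.restr (inferInstance : HopfRep.Comod k A V) W hW
  have h := ComodSub.restr_coact_coe (inferInstance : HopfRep.Comod k A V) W hW w
  rw [dact_apply, dact_apply, ← h]
  exact (cR_rTensor W.subtype f.ofConv _).symm

section Connected

variable [Algebra.FiniteType k A] [CharZero k] [IsDomain A]

/-- An infinitesimally flat function of a connected group is zero. -/
theorem eq_zero_of_stable (S : Set A) (h0 : ∀ a ∈ S, counit (R := k) a = 0)
    (hS : ∀ d : A →ₗ[k] k, IsEpsDer d → ∀ a ∈ S, invOp d a ∈ S) {a : A} (ha : a ∈ S) : a = 0 := by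
  haveI : IsNoetherianRing A := Algebra.FiniteType.isNoetherianRing k A
  have hne : RingHom.ker (Bialgebra.counitAlgHom k A) ≠ ⊤ := RingHom.ker_ne_top _
  rw [← Submodule.mem_bot A, ← Ideal.iInf_pow_eq_bot_of_isDomain _ hne]
  exact (Submodule.mem_iInf _).2 fun n => mem_pow_of_stable S h0 hS n a ha

/-- A subspace stable under the Lie algebra is a subcomodule. -/
theorem isSubcomod_of_lie (W : Submodule k V) (hW : ∀ X : L, ∀ w ∈ W, ⁅X, w⁆ ∈ W) :
    HopfRep.IsSubcomod (k := k) (A := A) W := by
  refine isSubcomod_iff.mpr fun f w hw => ?_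
  by_contra hc
  obtain ⟨φ, hφ1, hφ2⟩ := Submodule.exists_dual_map_eq_bot_of_notMem hc inferInstance
  have hφ : ∀ u ∈ W, φ u = 0 := fun u hu => (Submodule.mem_bot k).1 (hφ2 ▸ Submodule.mem_map_of_mem hu)
  let S : Set A := {a | ∃ u ∈ W, a = cL φ (HopfRep.Comod.coact (k := k) (A := A) u)}
  have h : cL φ (HopfRep.Comod.coact (k := k) (A := A) w) = 0 := by
    refine eq_zero_of_stable (k := k) S ?_ ?_ ⟨w, hw, rfl⟩
    · rintro a ⟨u, hu, rfl⟩
      refine (apply_cL_coact (1 : CDual k A) φ u).trans ?_
      rw [map_one]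
      exact hφ u hu
    · rintro d hd a ⟨u, hu, rfl⟩
      exact ⟨_, hW ⟨WithConv.toConv d, hd⟩ u hu, coeff_smul (WithConv.toConv d) φ u⟩
  apply hφ1
  rw [← apply_cL_coact, h, map_zero]

/-- A vector killed by the Lie algebra is fixed. -/
theorem mem_fixedPts_of_lie {v : V} (hv : ∀ X : L, ⁅X, v⁆ = 0) : v ∈ HopfRep.fixedPts k A V := by
  show HopfRep.Comod.coact (k := k) (A := A) v = v ⊗ₜ[k] (1 : A)
  refine tensor_eq_of_cL fun φ => ?_
  rw [cL_tmul, ← sub_eq_zero]
  refine eq_zero_of_stable (k := k)
    {a | a = 0 ∨ a = cL φ (HopfRep.Comod.coact (k := k) (A := A) v) - φ v • (1 : A)} ?_ ?_ (Or.inr rfl)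
  · rintro a (rfl | rfl)
    · simp
    · rw [map_sub, map_smul, Bialgebra.counit_one, smul_eq_mul, mul_one, sub_eq_zero]
      refine (apply_cL_coact (1 : CDual k A) φ v).trans ?_
      rw [map_one]; rfl
  · rintro d hd a (rfl | rfl)
    · simp
    · refine Or.inl ?_
      rw [map_sub, map_smul, show invOp d (1 : A) = 0 by simp [invOp, Algebra.TensorProduct.one_def, hd.one],
        smul_zero, sub_zero]
      refine (coeff_smul (WithConv.toConv d) φ v).trans ?_
      rw [show dact k A V (WithConv.toConv d) v = 0 from hv ⟨WithConv.toConv d, hd⟩, map_zero, map_zero]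

theorem eq_bot_or_top_of_lie (hs : HopfRep.IsSimpleComod k A V) (W : Submodule k V)
    (hW : ∀ X : L, ∀ w ∈ W, ⁅X, w⁆ ∈ W) : W = ⊥ ∨ W = ⊤ :=
  hs.2 W (isSubcomod_of_lie W hW)

variable [IsAlgClosed k] [Module.Finite k V]

/-- An endomorphism commuting with the Lie algebra of a simple comodule is a scalar. -/
theorem exists_scalar_of_commute (hs : HopfRep.IsSimpleComod k A V) (T : Module.End k V)
    (hT : ∀ (X : L) (v : V), T ⁅X, v⁆ = ⁅X, T v⁆) : ∃ c : k, ∀ v : V, T v = c • v := by
  haveI := hs.1
  obtain ⟨c, hc⟩ := Module.End.exists_eigenvalue T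
  refine ⟨c, fun v => ?_⟩
  have h := (eq_bot_or_top_of_lie hs (T.eigenspace c) fun X w hw => ?_).resolve_left hc
  · exact Module.End.mem_eigenspace_iff.1 (h ▸ Submodule.mem_top)
  · rw [Module.End.mem_eigenspace_iff] at hw ⊢
    rw [hT, hw, lie_smul]

/-- An ideal whose derived algebra acts nilpotently acts on a simple comodule by scalars. -/
theorem exists_scalar_of_ideal (hs : HopfRep.IsSimpleComod k A V) (I : LieIdeal k L)
    (hD : ∀ X ∈ ⁅I, I⁆, IsNilpotent (LieModule.toEnd k L V X)) (X : L) (hX : X ∈ I) :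
    ∃ c : k, ∀ v : V, ⁅X, v⁆ = c • v := by
  haveI := hs.1
  let D : LieIdeal k L := ⁅I, I⁆
  haveI : LieModule.IsNilpotent D V :=
    (LieModule.isNilpotent_iff_forall (R := k)).2 fun x => hD (x : L) x.2
  have hnt := LieModule.nontrivial_max_triv_of_isNilpotent k D V
  obtain ⟨⟨u, hu⟩, hu0⟩ := exists_ne (0 : LieModule.maxTrivSubmodule k D V)
  let χ0 : D → k := fun _ => 0
  have hu' : u ∈ LieModule.weightSpace V χ0 := by
    rw [LieModule.mem_weightSpace]
    exact fun x => by rw [hu x, zero_smul]
  have hZ := (eq_bot_or_top_of_lie hs (LieModule.weightSpaceOfIsLieTower k V χ0 : LieSubmodule k L V).toSubmodule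
    fun Y w hw => (LieModule.weightSpaceOfIsLieTower k V χ0 : LieSubmodule k L V).lie_mem hw).resolve_left
      fun h => hu0 (Subtype.ext (show u = 0 from (Submodule.mem_bot k).1 (h ▸ hu')))
  have hD0 : ∀ Y : L, Y ∈ D → ∀ v : V, ⁅Y, v⁆ = 0 := fun Y hY v => by
    have h : v ∈ LieModule.weightSpace V χ0 := (SetLike.ext_iff.1 hZ v).2 trivial
    rw [LieModule.mem_weightSpace] at h
    simpa [χ0] using h ⟨Y, hY⟩
  let imI : LieSubalgebra k (Module.End k V) := (LieModule.toEnd k I V).range
  haveI : IsLieAbelian imI := ⟨by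
    rintro ⟨_, y, rfl⟩ ⟨_, z, rfl⟩
    refine Subtype.ext (LinearMap.ext fun v => ?_)
    show ⁅(y : L), ⁅(z : L), v⁆⁆ - ⁅(z : L), ⁅(y : L), v⁆⁆ = (0 : V)
    rw [← lie_lie]
    exact hD0 _ (LieSubmodule.lie_mem_lie y.2 z.2) v⟩
  obtain ⟨χ, hχ⟩ := LieModule.exists_nontrivial_weightSpace_of_isSolvable k imI V
  obtain ⟨⟨v₁, hv₁⟩, hv₁0⟩ := exists_ne (0 : LieModule.weightSpace V χ)
  rw [LieModule.mem_weightSpace] at hv₁
  let χ1 : I → k := fun y => χ ⟨_, y, rfl⟩
  have hv₁' : v₁ ∈ LieModule.weightSpace V χ1 := by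
    rw [LieModule.mem_weightSpace]
    exact fun y => hv₁ ⟨_, y, rfl⟩
  have hZ1 := (eq_bot_or_top_of_lie hs (LieModule.weightSpaceOfIsLieTower k V χ1 : LieSubmodule k L V).toSubmodule
    fun Y w hw => (LieModule.weightSpaceOfIsLieTower k V χ1 : LieSubmodule k L V).lie_mem hw).resolve_left
      fun h => hv₁0 (Subtype.ext (show v₁ = 0 from (Submodule.mem_bot k).1 (h ▸ hv₁')))
  refine ⟨χ1 ⟨X, hX⟩, fun v => ?_⟩
  have h : v ∈ LieModule.weightSpace V χ1 := (SetLike.ext_iff.1 hZ1 v).2 trivial
  rw [LieModule.mem_weightSpace] at h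
  exact h ⟨X, hX⟩

end Connected

end Modules

end Groth.Agent.RedLR
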