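import Groth.Agent.RedLR.Lie
import Mathlib.LinearAlgebra.Basis.VectorSpace
import Mathlib.RingTheory.Bialgebra.Basic

/-!
# Replicas of infinitesimal elements acting by scalars on a faithful semisimple representation

An element of the Lie algebra acting by scalars on the simple pieces of a generating semisimple subcomodule of
the coordinate ring lives on a diagonalisable subgroup; hence it acts semisimply everywhere, and composing its
eigenvalues with any `ℚ`-linear endomorphism of the field gives again an element of the Lie algebra.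
-/

set_option autoImplicit false
set_option linter.unusedSectionVars false
set_option backward.isDefEq.respectTransparency false
set_option synthInstance.maxHeartbeats 400000
set_option maxHeartbeats 1000000

universe u

open TensorProduct Coalgebra
open Groth.Agent.Comod Groth.Agent.UnipFilt Groth.Agent.HopfCartier
open scoped Groth.Agent.Comod

noncomputable section

namespace Groth.Agent.RedLR

attribute [local instance 100] LieRing.ofAssociativeRing

variable (k : Type u) [Field k] (A : Type u) [CommRing A] [HopfAlgebra k A]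

/-- A finite semisimple subcomodule of the coordinate ring whose functions and their inverses generate it. -/
structure Gen where
  /-- The underlying submodule over the dual algebra. -/
  S : Submodule (CDual k A) A
  finite : Module.Finite k (ofDSub S)
  semisimple : S ≤ sSup {m : Submodule (CDual k A) A | IsSimpleModule (CDual k A) m ∧ m ≤ S}
  adjoin_eq : Algebra.adjoin k ((S : Set A) ∪ HopfAlgebra.antipode k '' (S : Set A)) = ⊤

variable {k A}

local notation "L" => (gLie k A)

/-- An element acting semisimply in all representations, together with its replicas. -/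
def Split [CharZero k] (X : L) : Prop :=
  ∀ φ : k →ₗ[ℚ] k, ∃ Y : L, ∀ (V : Type u) [AddCommGroup V] [Module k V] [HopfRep.Comod k A V],
    Submodule.span k {v : V | ∃ x : k, ⁅X, v⁆ = x • v ∧ ⁅Y, v⁆ = φ x • v} = ⊤

/-- `X` acts by a scalar on each simple piece. -/
def Gen.IsScalar (G : Gen k A) (X : L) : Prop :=
  ∀ m : Submodule (CDual k A) A, IsSimpleModule (CDual k A) m → m ≤ G.S → ∃ x : k, ∀ w ∈ m, ⁅X, w⁆ = x • w

variable [Algebra.FiniteType k A] (G : Gen k A)

/-- The ideal of the subgroup acting by scalars on every simple piece. -/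
def Gen.scIdeal : Ideal A :=
  Ideal.span {a | ∃ m : Submodule (CDual k A) A, IsSimpleModule (CDual k A) m ∧ m ≤ G.S ∧
    ∃ w ∈ m, ∃ φ : A →ₗ[k] k, φ w = 0 ∧ a = cL φ (comul (R := k) w)}

local notation "J₀" => Gen.scIdeal G
local notation "π₀" => Ideal.Quotient.mkₐ k (Gen.scIdeal G)

/-- The product of two functionals pulled back from the quotient. -/
theorem conv_eq {B : Type u} [CommRing B] [Algebra k B] (p : A →ₐ[k] B) (F F' : B →ₗ[k] k) (a : A) :
    (WithConv.toConv (F ∘ₗ p.toLinearMap) * WithConv.toConv (F' ∘ₗ p.toLinearMap) : CDual k A).ofConv a =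
      F (cR F' (Algebra.TensorProduct.map p p (comul (R := k) a))) := by
  rw [LinearMap.convMul_def]
  show LinearMap.mul' k k (TensorProduct.map (F ∘ₗ p.toLinearMap) (F' ∘ₗ p.toLinearMap) (comul (R := k) a)) = _
  generalize comul (R := k) a = t
  induction t using TensorProduct.induction_on with
  | zero => simp
  | tmul x y => simp [mul_comm]
  | add x y hx hy => simp only [map_add, hx, hy]

theorem map_eq_zero_of_conv {B : Type u} [CommRing B] [Algebra k B] (p : A →ₐ[k] B) (a : A)
    (h : ∀ F F' : B →ₗ[k] k,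
      (WithConv.toConv (F ∘ₗ p.toLinearMap) * WithConv.toConv (F' ∘ₗ p.toLinearMap) : CDual k A).ofConv a = 0) :
    Algebra.TensorProduct.map p p (comul (R := k) a) = 0 := by
  refine tensor_eq_zero_of_cR fun F' => (Module.forall_dual_apply_eq_zero_iff k _).1 fun F => ?_
  rw [← conv_eq]; exact h F F'

/-- The counit vanishes on the ideal. -/
theorem Gen.scIdeal_le_ker : J₀ ≤ RingHom.ker (Bialgebra.counitAlgHom k A) := by
  refine Ideal.span_le.2 ?_
  rintro _ ⟨m, -, -, w, -, φ, hφ, rfl⟩
  refine (apply_cL_coact (1 : CDual k A) φ w).trans ?_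
  rw [map_one]
  exact hφ

/-- On a simple piece the subgroup acts through one function. -/
theorem Gen.exists_char {m : Submodule (CDual k A) A} (hs : IsSimpleModule (CDual k A) m) (hm : m ≤ G.S) :
    ∃ t : A ⧸ J₀, (∀ w ∈ m, ∀ φ : A →ₗ[k] k,
      π₀ (cL φ (comul (R := k) w)) = φ w • t) ∧ ∃ c ∈ m, counit (R := k) c = 1 := by
  haveI := IsSimpleModule.nontrivial (CDual k A) m
  obtain ⟨⟨w₀, hw₀⟩, hne⟩ := exists_ne (0 : m)
  have hne' : w₀ ≠ 0 := fun h => hne (Subtype.ext h)
  obtain ⟨φ₀', hφ₀'⟩ := Module.Projective.exists_dual_ne_zero k hne'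
  let φ₀ : A →ₗ[k] k := (φ₀' w₀)⁻¹ • φ₀'
  have h₀ : φ₀ w₀ = 1 := by simp [φ₀, hφ₀']
  let f : (A →ₗ[k] k) → A → A ⧸ J₀ := fun φ w => π₀ (cL φ (comul (R := k) w))
  have hf0 : ∀ w ∈ m, ∀ φ, φ w = 0 → f φ w = 0 := fun w hw φ hφ =>
    Ideal.Quotient.eq_zero_iff_mem.2 (Ideal.subset_span ⟨m, hs, hm, w, hw, φ, hφ, rfl⟩)
  have hcl : ∀ (φ ψ : A →ₗ[k] k) (c : k) (z : A ⊗[k] A), cL (φ + c • ψ) z = cL φ z + c • cL ψ z := by
    intro φ ψ c z
    induction z using TensorProduct.induction_on with
    | zero => simp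
    | tmul a b => simp [add_smul, smul_smul]
    | add a b ha hb => simp only [map_add, ha, hb, smul_add]; abel
  -- one vector
  have step1 : ∀ w ∈ m, ∀ φ ψ : A →ₗ[k] k, ψ w = 1 → f φ w = φ w • f ψ w := by
    intro w hw φ ψ hψ
    have h := hf0 w hw (φ + (-(φ w)) • ψ) (by simp [hψ])
    simp only [f, hcl, map_add, map_smul, neg_smul] at h ⊢
    rw [map_neg, map_smul, ← sub_eq_add_neg, sub_eq_zero] at h
    exact h
  let t := f φ₀ w₀
  have h1 : ∀ w ∈ m, φ₀ w = 1 → ∀ φ, f φ w = φ w • t := by
    intro w hw hw1 φ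
    rw [step1 w hw φ φ₀ hw1]
    congr 1
    have h := hf0 (w - w₀) (sub_mem hw hw₀) φ₀ (by rw [map_sub, hw1, h₀, sub_self])
    simp only [f, map_sub, sub_eq_zero] at h
    exact h
  have key : ∀ w ∈ m, ∀ φ, f φ w = φ w • t := by
    intro w hw φ
    have hw' : w + (1 - φ₀ w) • w₀ ∈ m :=
      add_mem hw ((ofDSub m).smul_mem _ (show w₀ ∈ ofDSub m from hw₀))
    have hb := h1 _ hw' (by simp [h₀]) φ
    have ha := h1 w₀ hw₀ h₀ φ
    simp only [f, map_add, map_smul, smul_eq_mul] at hb ha ⊢
    rw [ha, add_smul, mul_smul] at hb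
    exact add_right_cancel hb
  refine ⟨t, key, ?_⟩
  obtain ⟨c, hc, hc0⟩ : ∃ c ∈ m, counit (R := k) c ≠ 0 := by
    by_contra! h
    refine hne' ?_
    have e : cL (counit (R := k) (A := A)) (comul (R := k) w₀) = w₀ := by
      show TensorProduct.lid k A ((counit (R := k) (A := A)).rTensor A (comul (R := k) w₀)) = w₀
      rw [Coalgebra.rTensor_counit_comul]; simp
    refine e ▸ (Module.forall_dual_apply_eq_zero_iff k _).1 fun g => ?_
    show g (cL _ _) = 0
    rw [cR_cL]
    exact h _ (m.smul_mem (WithConv.toConv g) hw₀)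
  exact ⟨(counit (R := k) c)⁻¹ • c, (ofDSub m).smul_mem _ (show c ∈ ofDSub m from hc), by
    simp [hc0]⟩

/-- Functionals on the quotient act by scalars on a simple piece. -/
theorem Gen.dact_char {m : Submodule (CDual k A) A} {t : A ⧸ J₀}
    (ht : ∀ w ∈ m, ∀ φ : A →ₗ[k] k, π₀ (cL φ (comul (R := k) w)) = φ w • t)
    (F : A ⧸ J₀ →ₗ[k] k) {w : A} (hw : w ∈ m) :
    dact k A A (WithConv.toConv (F ∘ₗ (π₀).toLinearMap)) w = F t • w := by
  refine sub_eq_zero.1 ((Module.forall_dual_apply_eq_zero_iff k _).1 fun φ => ?_)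
  rw [map_sub, map_smul, ← apply_cL_coact, sub_eq_zero]
  show F (π₀ (cL φ (comul (R := k) w))) = _
  rw [ht w hw φ, map_smul, smul_eq_mul, smul_eq_mul, mul_comm]

/-- Spanning group-like elements form a basis. -/
theorem exists_basis_of_groupLike {B : Type u} [AddCommGroup B] [Module k B] (Δ : B →ₗ[k] B ⊗[k] B)
    (ε : B →ₗ[k] k) (s : Set B) (hs : ∀ g ∈ s, Δ g = g ⊗ₜ g ∧ ε g = 1) (hspan : Submodule.span k s = ⊤) :
    ∃ b : Module.Basis s k B, ∀ g, b g = (g : B) := by
  classical
  obtain ⟨bs, hbsub, hbspan, hbli⟩ := exists_linearIndependent k s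
  let B₀ : Module.Basis bs k B := Module.Basis.mk hbli (by rw [Subtype.range_coe, hbspan, hspan])
  have hB₀ : ∀ i, B₀ i = (i : B) := fun i => Module.Basis.mk_apply _ _ i
  suffices hle : s ⊆ bs by
    obtain rfl : s = bs := Set.Subset.antisymm hle hbsub
    exact ⟨B₀, hB₀⟩
  intro g hg
  have hΔ : ∀ r, Δ (B₀ r) = B₀ r ⊗ₜ B₀ r := fun r => by rw [hB₀]; exact (hs _ (hbsub r.2)).1
  have hcd : ∀ p q : bs, B₀.coord p g * B₀.coord q g = if p = q then B₀.coord p g else 0 := by
    intro p q
    have hlin : B₀.coord p ∘ₗ cR (B₀.coord q) ∘ₗ Δ = (if p = q then (1 : k) else 0) • B₀.coord p := by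
      refine B₀.ext fun r => ?_
      rw [LinearMap.comp_apply, LinearMap.comp_apply, hΔ, cR_tmul, map_smul, LinearMap.smul_apply,
        Module.Basis.coord_apply, Module.Basis.coord_apply, Module.Basis.repr_self, smul_eq_mul, smul_eq_mul,
        Finsupp.single_apply, Finsupp.single_apply]
      rcases eq_or_ne r p with rfl | hrp
      · rw [if_pos rfl]
      · rw [if_neg hrp, mul_zero, mul_zero]
    have h := LinearMap.congr_fun hlin g
    rw [LinearMap.comp_apply, LinearMap.comp_apply, (hs g hg).1, cR_tmul, map_smul, LinearMap.smul_apply,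
      smul_eq_mul, smul_eq_mul, ite_mul, one_mul, zero_mul] at h
    rw [mul_comm, h]
  obtain ⟨i, hi⟩ : ∃ i, B₀.coord i g ≠ 0 := by
    by_contra! h
    have : g = 0 := B₀.ext_elem fun j => by simpa using h j
    have h1 := (hs g hg).2
    rw [this, map_zero] at h1
    exact zero_ne_one h1
  have hi1 : B₀.coord i g = 1 := by
    have h := hcd i i
    rw [if_pos rfl] at h
    exact mul_left_cancel₀ hi (h.trans (mul_one _).symm)
  suffices g = B₀ i by rw [this, hB₀]; exact i.2
  refine B₀.ext_elem fun j => ?_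
  rw [Module.Basis.repr_self]
  rcases eq_or_ne i j with rfl | hij
  · simpa using hi1
  · rw [Finsupp.single_eq_of_ne (Ne.symm hij)]
    have h := hcd i j
    rwa [if_neg hij, hi1, one_mul] at h

/-- An element acting by scalars on the simple pieces is split. -/
theorem Gen.split [CharZero k] {X : L} (hX : G.IsScalar X) : Split X := by
  classical
  intro φ
  let d : A →ₗ[k] k := (X : CDual k A).ofConv
  have hd : IsEpsDer d := X.2
  have hε := G.scIdeal_le_ker
  have hdJ : ∀ a ∈ J₀, d a = 0 := by
    intro a ha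
    induction ha using Submodule.span_induction with
    | mem a ha =>
      obtain ⟨m, hs, hm, w, hw, ψ, hψ, rfl⟩ := ha
      obtain ⟨x, hx⟩ := hX m hs hm
      refine (apply_cL_coact (X : CDual k A) ψ w).trans ?_
      rw [← lie_apply, hx w hw, map_smul, hψ, smul_zero]
    | zero => exact map_zero d
    | add a b _ _ ha hb => rw [map_add, ha, hb, add_zero]
    | smul r a ha hda =>
      rw [smul_eq_mul, hd, hda, show counit (R := k) a = 0 from hε ha, mul_zero, zero_mul, add_zero]
  -- structure maps of the quotient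
  let P : A →ₐ[k] A ⧸ J₀ := π₀
  have hP : Function.Surjective P := Ideal.Quotient.mk_surjective
  have hΔJ : ∀ a ∈ J₀, Algebra.TensorProduct.map P P (comul (R := k) a) = 0 := by
    intro a ha
    refine (show J₀ ≤ RingHom.ker ((Algebra.TensorProduct.map P P).comp (Bialgebra.comulAlgHom k A)) from
      Ideal.span_le.2 ?_) ha
    rintro _ ⟨m, hs, hm, w, hw, ψ, hψ, rfl⟩
    refine map_eq_zero_of_conv P _ fun F F' => ?_
    obtain ⟨t, ht, -⟩ := G.exists_char hs hm
    refine (apply_cL_coact (V := A) _ ψ w).trans ?_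
    rw [map_mul, Module.End.mul_apply, G.dact_char ht F' hw, map_smul, G.dact_char ht F hw,
      map_smul, map_smul, hψ, smul_zero, smul_zero]
  let ΔB : (A ⧸ J₀) →ₐ[k] (A ⧸ J₀) ⊗[k] (A ⧸ J₀) :=
    Ideal.Quotient.liftₐ J₀ ((Algebra.TensorProduct.map P P).comp (Bialgebra.comulAlgHom k A)) hΔJ
  let εB : (A ⧸ J₀) →ₐ[k] k := Ideal.Quotient.liftₐ J₀ (Bialgebra.counitAlgHom k A) fun a ha => hε ha
  have hΔP : ∀ a, ΔB (P a) = Algebra.TensorProduct.map P P (comul (R := k) a) := fun a => rfl
  have hεP : ∀ a, εB (P a) = counit (R := k) a := fun a => rfl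
  have hconv : ∀ (F F' : A ⧸ J₀ →ₗ[k] k) a, (WithConv.toConv (F ∘ₗ P.toLinearMap) *
      WithConv.toConv (F' ∘ₗ P.toLinearMap) : CDual k A).ofConv a = F (cR F' (ΔB (P a))) :=
    fun F F' a => by rw [conv_eq, hΔP]
  -- group-like elements
  let GK : Submonoid (A ⧸ J₀) :=
    { carrier := {g | ΔB g = g ⊗ₜ g ∧ εB g = 1}
      one_mem' := ⟨by rw [map_one]; rfl, map_one _⟩
      mul_mem' := fun {g h} hg hh => ⟨by rw [map_mul, hg.1, hh.1, Algebra.TensorProduct.tmul_mul_tmul],
        by rw [map_mul, hg.2, hh.2, one_mul]⟩ }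
  let T : Subalgebra k (A ⧸ J₀) :=
    { Submodule.span k (GK : Set (A ⧸ J₀)) with
      mul_mem' := fun {a b} ha hb => by
        have h := Submodule.mul_mem_mul ha hb
        rw [Submodule.span_mul_span] at h
        refine Submodule.span_mono ?_ h
        rintro _ ⟨g, hg, g', hg', rfl⟩
        exact GK.mul_mem hg hg'
      algebraMap_mem' := fun r => by
        rw [Algebra.algebraMap_eq_smul_one]
        exact Submodule.smul_mem _ r (Submodule.subset_span GK.one_mem) }
  have hmT : ∀ m : Submodule (CDual k A) A, IsSimpleModule (CDual k A) m → m ≤ G.S →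
      ∀ w ∈ m, P w ∈ T ∧ P (HopfAlgebra.antipode k w) ∈ T := by
    intro m hs hm
    obtain ⟨t, ht, c, hc, hc1⟩ := G.exists_char hs hm
    have hPw : ∀ w ∈ m, P w = counit (R := k) w • t := fun w hw => by
      rw [← ht w hw (counit (R := k))]
      congr 1
      show w = TensorProduct.lid k A ((counit (R := k) (A := A)).rTensor A (comul (R := k) w))
      rw [Coalgebra.rTensor_counit_comul]; simp
    have htc : t = P c := by rw [hPw c hc, hc1, one_smul]
    have htG : t ∈ GK := by
      refine ⟨?_, by rw [htc, hεP, hc1]⟩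
      refine tensor_eq_of_cR fun F' => sub_eq_zero.1 ((Module.forall_dual_apply_eq_zero_iff k _).1 fun F => ?_)
      rw [map_sub, cR_tmul, map_smul, smul_eq_mul, sub_eq_zero]
      rw [htc, ← hconv]
      have hcl : cL (counit (R := k)) (comul (R := k) c) = c := by
        show TensorProduct.lid k A ((counit (R := k) (A := A)).rTensor A (comul (R := k) c)) = c
        rw [Coalgebra.rTensor_counit_comul]; simp
      nth_rewrite 1 [← hcl]
      refine (apply_cL_coact (V := A) _ _ c).trans ?_
      rw [map_mul, Module.End.mul_apply, G.dact_char ht F' hc, map_smul, G.dact_char ht F hc,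
        map_smul, map_smul, hc1, smul_eq_mul, smul_eq_mul, mul_one, ← htc]
    have hcoact : ∀ w ∈ m, P.toLinearMap.lTensor A (comul (R := k) w) = w ⊗ₜ t := by
      intro w hw
      refine tensor_eq_of_cR fun F => ?_
      rw [cR_tmul, ← G.dact_char ht F hw]
      show _ = cR (F ∘ₗ P.toLinearMap) (comul (R := k) w)
      generalize comul (R := k) w = z
      induction z using TensorProduct.induction_on with
      | zero => simp
      | tmul x y => simp
      | add x y hx hy => simp only [map_add, hx, hy]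
    have hinv : ∀ w ∈ m, P (HopfAlgebra.antipode k w) * t = algebraMap k _ (counit (R := k) w) := by
      intro w hw
      have h := congrArg P (HopfAlgebra.mul_antipode_rTensor_comul_apply (R := k) w)
      rw [AlgHom.commutes] at h
      rw [← h]
      have e : ∀ z : A ⊗[k] A, P (LinearMap.mul' k A ((HopfAlgebra.antipode k).rTensor A z)) =
          LinearMap.mul' k _ ((P.toLinearMap ∘ₗ HopfAlgebra.antipode k).rTensor _
            (P.toLinearMap.lTensor A z)) := fun z => by
        induction z using TensorProduct.induction_on with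
        | zero => simp
        | tmul x y => simp
        | add x y hx hy => simp only [map_add, hx, hy]
      rw [e, hcoact w hw]
      simp
    let s := P (HopfAlgebra.antipode k c)
    have hst : s * t = 1 := by rw [hinv c hc, hc1, map_one]
    have hsG : s ∈ GK := by
      have hu : IsUnit (t ⊗ₜ[k] t : (A ⧸ J₀) ⊗[k] (A ⧸ J₀)) :=
        IsUnit.of_mul_eq_one (s ⊗ₜ s) (by
          rw [Algebra.TensorProduct.tmul_mul_tmul, mul_comm, hst]; rfl)
      refine ⟨hu.mul_right_cancel ?_, ?_⟩
      · rw [Algebra.TensorProduct.tmul_mul_tmul, hst, ← htG.1, ← map_mul, hst, map_one]; rfl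
      · have h := congrArg εB hst
        rwa [map_mul, htG.2, mul_one, map_one] at h
    intro w hw
    refine ⟨hPw w hw ▸ T.smul_mem (Submodule.subset_span htG) _, ?_⟩
    have : P (HopfAlgebra.antipode k w) = counit (R := k) w • s := by
      calc P (HopfAlgebra.antipode k w) = P (HopfAlgebra.antipode k w) * t * s := by
            rw [mul_assoc, mul_comm t s, hst, mul_one]
        _ = counit (R := k) w • s := by rw [hinv w hw, Algebra.smul_def]
    exact this ▸ T.smul_mem (Submodule.subset_span hsG) _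
  have hT : T = ⊤ := by
    rw [eq_top_iff]
    intro b _
    obtain ⟨a, rfl⟩ := hP b
    have ha : a ∈ T.comap P := by
      refine (Algebra.adjoin_le ?_ : _ ≤ T.comap P) (G.adjoin_eq ▸ Algebra.mem_top : a ∈ Algebra.adjoin k _)
      let Q : Submodule (CDual k A) A := sSup {m | IsSimpleModule (CDual k A) m ∧ m ≤ G.S}
      have hQ : ∀ w ∈ Q, P w ∈ T ∧ P (HopfAlgebra.antipode k w) ∈ T := by
        intro w hw
        simp only [Q, sSup_eq_iSup'] at hw
        induction hw using Submodule.iSup_induction' with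
        | mem i x hx => exact hmT _ i.2.1 i.2.2 x hx
        | zero => simp [T.zero_mem]
        | add x y _ _ hx hy => exact ⟨by rw [map_add]; exact T.add_mem hx.1 hy.1,
            by rw [map_add, map_add]; exact T.add_mem hx.2 hy.2⟩
      rintro a (ha | ⟨w, hw, rfl⟩)
      · exact (hQ a (G.semisimple ha)).1
      · exact (hQ w (G.semisimple hw)).2
    exact ha
  have hspan : Submodule.span k (GK : Set (A ⧸ J₀)) = ⊤ :=
    eq_top_iff.2 fun b _ => show b ∈ T from hT ▸ Algebra.mem_top
  -- distinct group-like elements are independent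
  obtain ⟨B₀, hB₀⟩ := exists_basis_of_groupLike ΔB.toLinearMap εB.toLinearMap (GK : Set (A ⧸ J₀))
    (fun g hg => hg) hspan
  -- the replica
  obtain ⟨σ, hσ⟩ := P.toLinearMap.exists_rightInverse_of_surjective (LinearMap.range_eq_top.2 hP)
  let dB : (A ⧸ J₀) →ₗ[k] k := d ∘ₗ σ
  have hdB : ∀ a, dB (P a) = d a := fun a => by
    rw [← sub_eq_zero]
    show d (σ (P a)) - d a = 0
    rw [← map_sub]
    refine hdJ _ (Ideal.Quotient.eq.1 ?_)
    exact LinearMap.congr_fun hσ (P a)
  have hadd : ∀ g h : GK, dB ((g : A ⧸ J₀) * h) = dB g + dB h := by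
    intro g h
    obtain ⟨a, ha⟩ := hP (g : A ⧸ J₀)
    obtain ⟨b, hb⟩ := hP (h : A ⧸ J₀)
    rw [← ha, ← hb, ← map_mul, hdB, hdB, hdB, hd, ← hεP, ← hεP, ha, hb, g.2.2, h.2.2,
      one_mul, one_mul, add_comm]
  let yB : (A ⧸ J₀) →ₗ[k] k := B₀.constr k fun g => φ (dB g)
  have hyB : ∀ g ∈ GK, yB g = φ (dB g) := fun g hg => by
    conv_lhs => rw [show g = B₀ ⟨g, hg⟩ from (hB₀ ⟨g, hg⟩).symm]
    rw [Module.Basis.constr_basis]
  have hyder : ∀ a b, yB (a * b) = εB a * yB b + εB b * yB a := by
    have h : (LinearMap.mul k (A ⧸ J₀)).compr₂ yB =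
        (LinearMap.mul k k).compl₁₂ εB.toLinearMap yB + ((LinearMap.mul k k).compl₁₂ εB.toLinearMap yB).flip := by
      refine B₀.ext fun g => B₀.ext fun h => ?_
      simp only [LinearMap.compr₂_apply, LinearMap.mul_apply', LinearMap.add_apply, LinearMap.flip_apply,
        LinearMap.compl₁₂_apply, AlgHom.toLinearMap_apply, hB₀]
      rw [hyB _ (GK.mul_mem g.2 h.2), hyB _ g.2, hyB _ h.2, g.2.2,
        h.2.2, hadd, map_add, one_mul, one_mul, add_comm]
    exact fun a b => LinearMap.congr_fun₂ h a b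
  let Y : L := ⟨WithConv.toConv (yB ∘ₗ P.toLinearMap), fun a b => by
    simp only [LinearMap.comp_apply, AlgHom.toLinearMap_apply, map_mul, hyder, hεP]⟩
  refine ⟨Y, fun V _ _ _ => eq_top_iff.2 fun v _ => ?_⟩
  let z : V ⊗[k] (A ⧸ J₀) := P.toLinearMap.lTensor V (HopfRep.Comod.coact (k := k) (A := A) v)
  have hz : ∀ F : (A ⧸ J₀) →ₗ[k] k, cR F z = dact k A V (WithConv.toConv (F ∘ₗ P.toLinearMap)) v := by
    intro F
    show _ = cR (F ∘ₗ P.toLinearMap) (HopfRep.Comod.coact (k := k) (A := A) v)
    show cR F (P.toLinearMap.lTensor V (HopfRep.Comod.coact (k := k) (A := A) v)) = _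
    generalize HopfRep.Comod.coact (k := k) (A := A) v = s
    induction s using TensorProduct.induction_on with
    | zero => simp
    | tmul x y => simp
    | add x y hx hy => simp only [map_add, hx, hy]
  let w : GK → V := fun i => cR (B₀.coord i) z
  have hwi : ∀ (i : GK) (F : (A ⧸ J₀) →ₗ[k] k),
      dact k A V (WithConv.toConv (F ∘ₗ P.toLinearMap)) (w i) = F i • w i := by
    intro i F
    have hlin : F ∘ₗ cR (B₀.coord i) ∘ₗ ΔB.toLinearMap = F i • B₀.coord i := by
      refine B₀.ext fun r => ?_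
      simp only [LinearMap.comp_apply, AlgHom.toLinearMap_apply, hB₀ r, r.2.1, cR_tmul, map_smul,
        smul_eq_mul, LinearMap.smul_apply]
      rw [← hB₀ r, ← hB₀ i]
      simp only [Module.Basis.coord_apply, Module.Basis.repr_self, Finsupp.single_apply]
      rcases eq_or_ne r i with rfl | hri
      · simp [mul_comm]
      · simp [hri]
    show dact k A V _ (cR (B₀.coord i) z) = F i • cR (B₀.coord i) z
    rw [hz, ← Module.End.mul_apply, ← map_mul, ← LinearMap.smul_apply, ← map_smul]
    congr 2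
    refine WithConv.ofConv_injective (LinearMap.ext fun a => ?_)
    rw [hconv]
    exact LinearMap.congr_fun hlin (P a)
  obtain ⟨e, he⟩ : ∃ e : GK →₀ V, z = e.sum fun i x => x ⊗ₜ[k] B₀ i :=
    ⟨TensorProduct.equivFinsuppOfBasisRight B₀ z, by
      conv_lhs => rw [← (TensorProduct.equivFinsuppOfBasisRight B₀).symm_apply_apply z]
      rw [TensorProduct.equivFinsuppOfBasisRight_symm_apply]
      rfl⟩
  have hwe : ∀ i, w i = e i := fun i => by
    simp only [w, he, map_finsuppSum, cR_tmul, Module.Basis.coord_apply, Module.Basis.repr_self]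
    rw [Finsupp.sum_eq_single i (fun j _ hj => by rw [Finsupp.single_apply, if_neg hj, zero_smul])
      (fun _ => by rw [smul_zero]), Finsupp.single_eq_same, one_smul]
  have hv : v = cR εB.toLinearMap z := by
    rw [hz, show (WithConv.toConv (εB.toLinearMap ∘ₗ P.toLinearMap) : CDual k A) = 1 from
      WithConv.ofConv_injective (LinearMap.ext fun a => by
        simp [LinearMap.convOne_def, hεP]), map_one]
    rfl
  rw [hv, he, map_finsuppSum]
  refine Submodule.sum_mem _ fun i _ => ?_
  simp only [cR_tmul]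
  refine Submodule.smul_mem _ _ (Submodule.subset_span ⟨dB i, ?_, ?_⟩)
  · rw [← hwe, lie_apply, ← hwi i dB]
    congr 2
    exact WithConv.ofConv_injective (LinearMap.ext fun a => (hdB a).symm)
  · rw [← hwe, lie_apply, ← hyB _ i.2]
    exact hwi i yB

section Consequences

variable [CharZero k] {X : gLie k A} (hX : Split X)
variable {V : Type u} [AddCommGroup V] [Module k V] [HopfRep.Comod k A V]

include hX in
theorem Split.lie_eq_zero {v : V} (hv : ⁅X, ⁅X, v⁆⁆ = 0) : ⁅X, v⁆ = 0 := by
  classical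
  obtain ⟨Y, hY⟩ := hX 0
  obtain ⟨bs, hbsub, hbspan, hbli⟩ := exists_linearIndependent k {v : V | ∃ x : k, ⁅X, v⁆ = x • v ∧ ⁅Y, v⁆ = (0 : k →ₗ[ℚ] k) x • v}
  let b : Module.Basis bs k V := Module.Basis.mk hbli (by rw [Subtype.range_coe, hbspan, hY V])
  choose x hx hy using fun i : bs => hbsub i.2
  have hT : ∀ u : V, ∀ i, b.repr ⁅X, u⁆ i = x i * b.repr u i := fun u i => by
    have h : (Finsupp.lapply i) ∘ₗ b.repr.toLinearMap ∘ₗ (LieModule.toEnd k L V X) =
        x i • ((Finsupp.lapply i) ∘ₗ b.repr.toLinearMap) := b.ext fun j => by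
      simp only [LinearMap.comp_apply, LieModule.toEnd_apply_apply, LinearEquiv.coe_coe,
        Finsupp.lapply_apply, LinearMap.smul_apply, smul_eq_mul]
      rw [show ⁅X, b j⁆ = x j • b j by rw [Module.Basis.mk_apply]; exact hx j, map_smul, Module.Basis.repr_self,
        Finsupp.smul_apply, smul_eq_mul]
      rcases eq_or_ne j i with rfl | hji
      · rfl
      · simp [Finsupp.single_eq_of_ne hji.symm]
    exact LinearMap.congr_fun h u
  refine b.ext_elem fun i => ?_
  have h := hT ⁅X, v⁆ i
  rw [hv, map_zero, hT] at h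
  rw [hT, map_zero]
  simp only [Finsupp.coe_zero, Pi.zero_apply] at h ⊢
  rcases mul_eq_zero.1 h.symm with h | h
  · rw [h, zero_mul]
  · exact h

include hX in
theorem Split.exists_replica_zero (φ : k →ₗ[ℚ] k) : ∃ Y : L,
    (∀ (V : Type u) [AddCommGroup V] [Module k V] [HopfRep.Comod k A V] (v : V), ⁅X, v⁆ = 0 → ⁅Y, v⁆ = 0) ∧
    ∀ (V : Type u) [AddCommGroup V] [Module k V] [HopfRep.Comod k A V],
      Submodule.span k {v : V | ∃ x : k, ⁅X, v⁆ = x • v ∧ ⁅Y, v⁆ = φ x • v} = ⊤ := by
  classical
  obtain ⟨Y, hY⟩ := hX φ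
  refine ⟨Y, fun V _ _ _ v hv => ?_, hY⟩
  obtain ⟨bs, hbsub, hbspan, hbli⟩ :=
    exists_linearIndependent k {v : V | ∃ x : k, ⁅X, v⁆ = x • v ∧ ⁅Y, v⁆ = φ x • v}
  let b : Module.Basis bs k V := Module.Basis.mk hbli (by rw [Subtype.range_coe, hbspan, hY V])
  choose x hx hy using fun i : bs => hbsub i.2
  have hsum : ∀ (Z : L) (c : bs → k), (∀ i : bs, ⁅Z, (i : V)⁆ = c i • (i : V)) → ∀ i, b.repr ⁅Z, v⁆ i = c i * b.repr v i := by
    intro Z c hc i
    have h : (Finsupp.lapply i) ∘ₗ b.repr.toLinearMap ∘ₗ (LieModule.toEnd k L V Z) =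
        c i • ((Finsupp.lapply i) ∘ₗ b.repr.toLinearMap) := b.ext fun j => by
      simp only [LinearMap.comp_apply, LieModule.toEnd_apply_apply, LinearEquiv.coe_coe,
        Finsupp.lapply_apply, LinearMap.smul_apply, smul_eq_mul]
      rw [show ⁅Z, b j⁆ = c j • b j by rw [Module.Basis.mk_apply]; exact hc j, map_smul, Module.Basis.repr_self,
        Finsupp.smul_apply, smul_eq_mul]
      rcases eq_or_ne j i with rfl | hji
      · rfl
      · simp [Finsupp.single_eq_of_ne hji.symm]
    exact LinearMap.congr_fun h v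
  refine b.ext_elem fun i => ?_
  rw [hsum Y (fun i => φ (x i)) hy, map_zero]
  have h := hsum X x hx i
  rw [hv, map_zero] at h
  simp only [Finsupp.coe_zero, Pi.zero_apply] at h ⊢
  rcases mul_eq_zero.1 h.symm with h | h
  · rw [h, map_zero, zero_mul]
  · rw [h, mul_zero]

include hX in
/-- The trace pairing with all replicas detects zero. -/
theorem Split.lie_eq_zero_of_trace [Module.Finite k V]
    (htr : ∀ Y : L, (∀ (W : Type u) [AddCommGroup W] [Module k W] [HopfRep.Comod k A W] (w : W),
        ⁅X, w⁆ = 0 → ⁅Y, w⁆ = 0) →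
      LinearMap.trace k V (LieModule.toEnd k L V X * LieModule.toEnd k L V Y) = 0) (v : V) : ⁅X, v⁆ = 0 := by
  classical
  obtain ⟨Y₀, hY₀⟩ := hX 0
  have heig : ∀ (u : V) (c : k), u ≠ 0 → ⁅X, u⁆ = c • u → ∀ ψ : k →ₗ[ℚ] ℚ, ψ c = 0 := by
    intro u c hu hc ψ
    let φ : k →ₗ[ℚ] k := (Algebra.linearMap ℚ k).comp ψ
    obtain ⟨Y, hzero, hY⟩ := hX.exists_replica_zero φ
    obtain ⟨bs, hbsub, hbspan, hbli⟩ :=
      exists_linearIndependent k {v : V | ∃ x : k, ⁅X, v⁆ = x • v ∧ ⁅Y, v⁆ = φ x • v}
    let b : Module.Basis bs k V := Module.Basis.mk hbli (by rw [Subtype.range_coe, hbspan, hY V])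
    choose x hx hy using fun i : bs => hbsub i.2
    haveI : Fintype bs := FiniteDimensional.fintypeBasisIndex b
    have hbx : ∀ i, ⁅X, b i⁆ = x i • b i := fun i => by rw [Module.Basis.mk_apply]; exact hx i
    have hby : ∀ i, ⁅Y, b i⁆ = φ (x i) • b i := fun i => by rw [Module.Basis.mk_apply]; exact hy i
    have h0 := htr Y hzero
    rw [LinearMap.trace_eq_matrix_trace k b, Matrix.trace] at h0
    have h1 : ∑ i, φ (x i) * x i = 0 := by
      rw [← h0]
      refine Finset.sum_congr rfl fun i _ => ?_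
      simp [LinearMap.toMatrix_apply, hbx, hby, map_smul, mul_comm]
    have h2 : ∑ i, ψ (x i) * ψ (x i) = 0 := by
      have h3 := congrArg ψ h1
      rw [map_sum, map_zero] at h3
      rw [← h3]
      refine Finset.sum_congr rfl fun i _ => ?_
      rw [show φ (x i) * x i = ψ (x i) • x i by simp [φ, Algebra.smul_def], map_smul, smul_eq_mul]
    have h3 : ∀ i, ψ (x i) = 0 := fun i => mul_self_eq_zero.1
      ((Finset.sum_eq_zero_iff_of_nonneg fun j _ => mul_self_nonneg _).1 h2 i (Finset.mem_univ i))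
    obtain ⟨i, hi⟩ : ∃ i, b.repr u i ≠ 0 := by
      by_contra! h
      exact hu (b.ext_elem fun i => by simpa using h i)
    have h4 : (Finsupp.lapply i) ∘ₗ b.repr.toLinearMap ∘ₗ (LieModule.toEnd k L V X) =
        x i • ((Finsupp.lapply i) ∘ₗ b.repr.toLinearMap) := b.ext fun j => by
      simp only [LinearMap.comp_apply, LieModule.toEnd_apply_apply, LinearEquiv.coe_coe,
        Finsupp.lapply_apply, LinearMap.smul_apply, smul_eq_mul]
      rw [hbx j, map_smul, Module.Basis.repr_self, Finsupp.smul_apply, smul_eq_mul]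
      rcases eq_or_ne j i with rfl | hji
      · rfl
      · simp [Finsupp.single_eq_of_ne hji.symm]
    have h5 : b.repr ⁅X, u⁆ i = x i * b.repr u i := LinearMap.congr_fun h4 u
    rw [hc, map_smul, Finsupp.smul_apply, smul_eq_mul] at h5
    rw [mul_right_cancel₀ hi h5]
    exact h3 i
  have hv : v ∈ (⊤ : Submodule k V) := trivial
  rw [← hY₀ V] at hv
  induction hv using Submodule.span_induction with
  | mem u hu =>
    obtain ⟨x, hx, -⟩ := hu
    rcases eq_or_ne u 0 with rfl | hu0
    · exact lie_zero X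
    · rw [hx, (Module.forall_dual_apply_eq_zero_iff ℚ x).1 (heig u x hu0 hx), zero_smul]
  | zero => exact lie_zero X
  | add a b _ _ ha hb => rw [lie_add, ha, hb, add_zero]
  | smul c a _ ha => rw [lie_smul, ha, smul_zero]

end Consequences

/-- An element killing a generating piece is zero. -/
theorem Gen.eq_zero {X : L} (h : ∀ w ∈ G.S, ⁅X, w⁆ = 0) : X = 0 := by
  have hd : IsEpsDer (X : CDual k A).ofConv := X.2
  have h0 : ∀ w ∈ G.S, (X : CDual k A).ofConv w = 0 := by
    intro w hw
    have := congrArg (counit (R := k)) (h w hw)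
    rw [map_zero] at this
    rw [← this]
    exact (counit_invOp _ _).symm
  have hS : ∀ w ∈ G.S, (X : CDual k A).ofConv (HopfAlgebra.antipode k w) = 0 := by
    intro w hw
    have hc := congrArg (X : CDual k A).ofConv (HopfAlgebra.mul_antipode_rTensor_comul_apply (R := k) w)
    rw [Algebra.algebraMap_eq_smul_one, map_smul, hd.one, smul_zero] at hc
    have hrr : ∀ z : A ⊗[k] A, (X : CDual k A).ofConv (LinearMap.mul' k A ((HopfAlgebra.antipode k).rTensor A z)) =
        counit (R := k) (cR (X : CDual k A).ofConv z) +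
          (X : CDual k A).ofConv (HopfAlgebra.antipode k (cR (counit (R := k)) z)) := by
      intro z
      induction z using TensorProduct.induction_on with
      | zero => simp
      | tmul a b => simp [hd _ _, HopfAlgebra.counit_antipode, mul_comm]; ring
      | add a b ha hb => simp only [map_add, ha, hb]; ring
    have hid : cR (counit (R := k)) (comul (R := k) w) = w := by
      show TensorProduct.rid k A ((counit (R := k) (A := A)).lTensor A (comul (R := k) w)) = w
      rw [Coalgebra.lTensor_counit_comul]; simp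
    rw [hrr, hid] at hc
    have hX0 : cR (X : CDual k A).ofConv (comul (R := k) w) = 0 := h w hw
    rwa [hX0, map_zero, zero_add] at hc
  refine Subtype.ext (WithConv.ofConv_injective (LinearMap.ext fun a => ?_))
  show (X : CDual k A).ofConv a = 0
  have ha : a ∈ Algebra.adjoin k ((G.S : Set A) ∪ HopfAlgebra.antipode k '' (G.S : Set A)) :=
    G.adjoin_eq ▸ Algebra.mem_top
  induction ha using Algebra.adjoin_induction with
  | mem a ha =>
    rcases ha with ha | ⟨w, hw, rfl⟩
    · exact h0 a ha
    · exact hS w hw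
  | algebraMap r => rw [Algebra.algebraMap_eq_smul_one, map_smul, hd.one, smul_zero]
  | add a b _ _ ha hb => rw [map_add, ha, hb, add_zero]
  | mul a b _ _ ha hb => rw [hd, ha, hb, mul_zero, mul_zero, add_zero]

end Groth.Agent.RedLR
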